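import Groth.Agent.Flat2G.FlatLocus
import Groth.Agent.FlatA.RelFlat

/-!
# Flatness over the base at the points of an affine open, in terms of sections

* `flat_sections_iff`: for `F` quasi-coherent, `U` affine open of `X` mapping into `V` affine open of `Y`:
  `F` is flat over `Y` at all points of `U` iff `Γ(F, U)` is flat over `Γ(Y, V)`.
* `isFlatOver_iff_of_cover`: flatness over `Y` in terms of a cover by such pairs.
-/

set_option autoImplicit false
universe u

open AlgebraicGeometry CategoryTheory CategoryTheory.Limits TopologicalSpace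

namespace K120.FlatDict

open Groth.Agent

variable {X Y : Scheme.{u}} (f : X ⟶ Y) (F : X.Modules)

/-- `Γ(F, U)` as a module over `Γ(Y, V)` -/
noncomputable abbrev secModule {U : X.Opens} {V : Y.Opens} (e : U ≤ f ⁻¹ᵁ V) : Module Γ(Y, V) Γ(F, U) :=
  Module.compHom _ (f.appLE V U e).hom

theorem flat_sections_iff (hq : Coh.IsQCoh F) {U : X.Opens} {V : Y.Opens} (hU : IsAffineOpen U) (hV : IsAffineOpen V)
    (e : U ≤ f ⁻¹ᵁ V) :
    letI := secModule f F e
    (∀ x ∈ U, FlatMod.IsFlatOverAt f F x) ↔ Module.Flat Γ(Y, V) Γ(F, U) := by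
  let := (f.appLE V U e).hom.toAlgebra
  let := secModule f F e
  have : IsScalarTower Γ(Y, V) Γ(X, U) Γ(F, U) := .of_algebraMap_smul fun _ _ => rfl
  constructor
  · intro h
    refine Module.flat_of_isLocalized_maximal (R := Γ(Y, V)) (S := Γ(X, U)) Γ(F, U)
      (fun P hP => LocalizedModule P.primeCompl Γ(F, U)) (fun P hP => LocalizedModule.mkLinearMap P.primeCompl _) ?_
    intro P hP
    let q : PrimeSpectrum Γ(X, U) := ⟨P, hP.isPrime⟩
    have hxq : hU.fromSpec q ∈ U := by
      rw [← SetLike.mem_coe, ← hU.range_fromSpec]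
      exact ⟨q, rfl⟩
    have h1 := (Flat2G.FlatLocus.isFlatOverAt_iff f F hq hU hV e _ hxq).mp (h _ hxq)
    have h3 : hU.primeIdealOf ⟨hU.fromSpec q, hxq⟩ = q := by
      apply hU.fromSpec.isOpenEmbedding.injective
      exact hU.fromSpec_primeIdealOf _
    have h4 : ∀ q' : PrimeSpectrum Γ(X, U), q' = q → Module.Flat Γ(Y, V) (LocalizedModule q'.asIdeal.primeCompl Γ(F, U)) →
        Module.Flat Γ(Y, V) (LocalizedModule P.primeCompl Γ(F, U)) := by
      rintro _ rfl h
      exact h
    exact h4 _ h3 h1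
  · intro h x hx
    rw [Flat2G.FlatLocus.isFlatOverAt_iff f F hq hU hV e x hx]
    exact FlatA.RelFlat.flat_of_isLocalizedModule (S := Γ(X, U)) (hU.primeIdealOf ⟨x, hx⟩).asIdeal.primeCompl
      (LocalizedModule.mkLinearMap _ _)

end K120.FlatDict
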