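import Groth.Agent.EGA43.K120.KerFlat
import Groth.Agent.EGA43.K120.FlatDict
import Groth.Agent.CycB.StalkExact
import Groth.Agent.FormalB.TrSys
import Groth.Agent.Smoothlim.FPMod

/-!
# Openness of injectivity on stalks when the cokernel is flat over the base

* `appL`: the map on sections of a morphism of modules, as a linear map;
* `exists_basicOpen_stalk_injective`: if `ker Γ(v, U)` is finitely generated and `v_x` is injective then `v` is
  injective on stalks near `x`;
* `isOpen_injective_and_flat`.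
-/

set_option autoImplicit false
universe u

open AlgebraicGeometry CategoryTheory CategoryTheory.Limits TopologicalSpace

namespace K120.StalkInj

open Groth.Agent Groth.Agent.CycB.StalkExact

variable {X : Scheme.{u}} {F G : X.Modules} (v : F ⟶ G)

/-- the map on sections -/
noncomputable def appL (U : X.Opens) : Γ(F, U) →ₗ[Γ(X, U)] Γ(G, U) where
  toFun := v.app U
  map_add' := map_add _
  map_smul' a x := v.app_smul a x

theorem appL_apply (U : X.Opens) (s : Γ(F, U)) : appL v U s = v.app U s := rfl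

theorem exists_basicOpen_stalk_injective (hF : Coh.IsQCoh F) (hG : Coh.IsQCoh G) {U : X.Opens} (hU : IsAffineOpen U)
    (hfg : (LinearMap.ker (appL v U)).FG) (x : X) (hx : x ∈ U) (hinj : Function.Injective (stalkLin v x)) :
    ∃ g : Γ(X, U), x ∈ X.basicOpen g ∧ ∀ y ∈ X.basicOpen g, Function.Injective (stalkLin v y) := by
  classical
  obtain ⟨s, hs⟩ := hfg
  have key : ∀ k : Γ(F, U), k ∈ LinearMap.ker (appL v U) → ∃ g : Γ(X, U), x ∈ X.basicOpen g ∧ g • k = 0 := by
    intro k hk
    have h1 : F.presheaf.germ U x hx k = 0 := by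
      apply hinj
      rw [map_zero, stalkLin_germ]
      have h2 : v.app U k = 0 := hk
      rw [h2, map_zero]
    exact Fdesc.QCohStalk.exists_smul_eq_zero_of_germ_eq_zero F hU hF x hx k h1
  have key' : ∀ k : Γ(F, U), ∃ g : Γ(X, U), x ∈ X.basicOpen g ∧ (k ∈ LinearMap.ker (appL v U) → g • k = 0) := by
    intro k
    by_cases hk : k ∈ LinearMap.ker (appL v U)
    · obtain ⟨g, hg, h⟩ := key k hk
      exact ⟨g, hg, fun _ => h⟩
    · exact ⟨1, by rw [X.basicOpen_one]; exact hx, fun h => absurd h hk⟩
  choose g hg hgk using key'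
  refine ⟨∏ k ∈ s, g k, ?_, ?_⟩
  · rw [X.mem_basicOpen _ x hx, map_prod]
    rw [IsUnit.prod_iff]
    intro k _
    exact (X.mem_basicOpen _ x hx).mp (hg k)
  · intro y hy
    have hyU : y ∈ U := X.basicOpen_le _ hy
    rw [injective_iff_map_eq_zero]
    intro t ht
    obtain ⟨a, m, ha, hm⟩ := Fdesc.QCohStalk.exists_germ_eq_smul F hU hF y hyU t
    have hau : IsUnit (X.presheaf.germ U y hyU a) := (X.mem_basicOpen a y hyU).mp ha
    have h1 : G.presheaf.germ U y hyU (v.app U m) = 0 := by
      rw [← stalkLin_germ, hm, map_smul, ht, smul_zero]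
    obtain ⟨b, hb, hbm⟩ := Fdesc.QCohStalk.exists_smul_eq_zero_of_germ_eq_zero G hU hG y hyU _ h1
    have h2 : b • m ∈ LinearMap.ker (appL v U) := by
      rw [LinearMap.mem_ker, map_smul, appL_apply, hbm]
    have h3 : (∏ k ∈ s, g k) • (b • m) = 0 := by
      rw [← hs] at h2
      refine Submodule.span_induction (p := fun k _ => (∏ k ∈ s, g k) • k = 0) ?_ ?_ ?_ ?_ h2
      · intro k hk
        have hk' : k ∈ LinearMap.ker (appL v U) := by rw [← hs]; exact Submodule.subset_span hk
        obtain ⟨c, hc⟩ := Finset.dvd_prod_of_mem g (Finset.mem_coe.mp hk)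
        rw [hc, mul_comm, mul_smul, hgk k hk', smul_zero]
      · rw [smul_zero]
      · intro p q _ _ hp hq
        rw [smul_add, hp, hq, add_zero]
      · intro c p _ hp
        rw [smul_comm, hp, smul_zero]
    have h4 := congrArg (F.presheaf.germ U y hyU) h3
    rw [map_zero, Fdesc.QCohStalk.germ_smul', Fdesc.QCohStalk.germ_smul', hm] at h4
    have hgu : IsUnit (X.presheaf.germ U y hyU (∏ k ∈ s, g k)) := (X.mem_basicOpen _ y hyU).mp hy
    have hbu : IsUnit (X.presheaf.germ U y hyU b) := (X.mem_basicOpen b y hyU).mp hb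
    exact (hau.smul_eq_zero).mp ((hbu.smul_eq_zero).mp ((hgu.smul_eq_zero).mp h4))

/-- openness of the set of points where `v` is injective on stalks and `coker v` is flat over the base -/
theorem isOpen_injective_and_flat {Y : Scheme.{u}} (f : X ⟶ Y) [LocallyOfFinitePresentation f]
    (hF : Coh.IsQCoh F) (hG : Coh.IsQCoh G) (hF' : CohB1.IsFP F) (hG' : CohB1.IsFP G) :
    IsOpen {x : X | Function.Injective (stalkLin v x) ∧ FlatMod.IsFlatOverAt f (cokernel v) x} := by
  have hC : Coh.IsQCoh (cokernel v) := PerfA.QCohSerre.isQCoh_cokernel v hF hG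
  have hC' : CohB1.IsFP (cokernel v) := Smoothlim.FPMod.isFP_cokernel v hF' hG'
  have hop := Flat2G.FlatLocus.isOpen_flatLocus f (cokernel v) hC hC'
  rw [isOpen_iff_forall_mem_open]
  rintro x ⟨hx1, hx2⟩
  obtain ⟨V, hV, hxV, -⟩ := exists_isAffineOpen_mem_and_subset (x := f x) (U := ⊤) trivial
  let O : X.Opens := ⟨_, hop⟩
  obtain ⟨U, hU, hxU, e⟩ := exists_isAffineOpen_mem_and_subset (x := x) (U := O ⊓ f ⁻¹ᵁ V) ⟨hx2, hxV⟩
  have eO : U ≤ O := e.trans inf_le_left
  have eV : U ≤ f ⁻¹ᵁ V := e.trans inf_le_right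
  let := (f.appLE V U eV).hom.toAlgebra
  let := FlatDict.secModule f (cokernel v) eV
  have : IsScalarTower Γ(Y, V) Γ(X, U) Γ(cokernel v, U) := .of_algebraMap_smul fun _ _ => rfl
  have : Algebra.FinitePresentation Γ(Y, V) Γ(X, U) :=
    LocallyOfFinitePresentation.finitePresentation_appLE f hV hU eV
  have h1 : Module.FinitePresentation Γ(X, U) Γ(F, U) := Desc.FPSections.finitePresentation_sections hU hF hF'
  have h2 : Module.FinitePresentation Γ(X, U) Γ(G, U) := Desc.FPSections.finitePresentation_sections hU hG hG'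
  have h3 : Module.FinitePresentation Γ(X, U) Γ(cokernel v, U) :=
    Desc.FPSections.finitePresentation_sections hU hC hC'
  have h4 : Module.Flat Γ(Y, V) Γ(cokernel v, U) :=
    (FlatDict.flat_sections_iff f (cokernel v) hC hU hV eV).mp fun y hy => eO hy
  have i1 : G.IsQuasicoherent := hG
  have i2 : (cokernel v).IsQuasicoherent := hC
  have h5 : Function.Surjective (appL (cokernel.π v) U) :=
    FormalB.QcSect.surjective_app_of_epi (cokernel.π v) hU
  have h6 : Function.Exact (appL v U) (appL (cokernel.π v) U) := by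
    intro y
    constructor
    · intro hy
      exact FormalB.TrSys.exists_of_exact hF hG hC v (cokernel.π v) (cokernel.condition v)
        (ShortComplex.exact_cokernel v) hU y hy
    · rintro ⟨z, rfl⟩
      exact congr((Scheme.Modules.Hom.app $(cokernel.condition v) U) z)
  have h7 := KerFlat.fg_ker_of_flat_coker (R := Γ(Y, V)) (appL v U) (appL (cokernel.π v) U) h5 h6
  obtain ⟨g, hxg, hg⟩ := exists_basicOpen_stalk_injective v hF hG hU h7 x hxU hx1
  exact ⟨X.basicOpen g, fun y hy => ⟨hg y hy, eO (X.basicOpen_le g hy)⟩, (X.basicOpen g).isOpen, hxg⟩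

end K120.StalkInj
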