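import Groth.Agent.FlatA.Model
import Groth.Agent.FlatA.FlatDescent
import Groth.Agent.Etbase.FlatStageModule

/-!
# Flatness of a finitely presented module descends to a finitely presented stage of the base

* `exists_model_flat`: `B₀` finitely presented over `A₀`, `M₀` finitely presented over `B₀`, and
  `A ⊗[A₀] M₀` flat over `A`; then `M₀` comes from a finitely generated `ℤ`-subalgebra `R₀` of `A₀`, and the model
  becomes flat over a finitely generated `R₀`-subalgebra of `A`.
* `exists_finitePresentation_flat`: hence `A₁ ⊗[A₀] M₀` is flat over `A₁` for some finitely presented `A₀`-algebra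
  `A₁` mapping to `A`.
-/

set_option autoImplicit false
universe u

open TensorProduct

namespace K120.FlatStage

open Groth.Agent

section

variable {A₀ A : Type u} [CommRing A₀] [CommRing A] [Algebra A₀ A]
    (B₀ : Type u) [CommRing B₀] [Algebra A₀ B₀] [Algebra.FinitePresentation A₀ B₀]
    (M₀ : Type u) [AddCommGroup M₀] [Module B₀ M₀] [Module A₀ M₀] [IsScalarTower A₀ B₀ M₀]
    [Module.FinitePresentation B₀ M₀]

/-- a base change of a flat base change -/
theorem flat_of_isBaseChange {R A N M C : Type*} [CommRing R] [CommRing A] [Algebra R A] [AddCommGroup N] [Module R N]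
    [AddCommGroup M] [Module R M] [Module A M] [IsScalarTower R A M] (g : N →ₗ[R] M) (hg : IsBaseChange A g)
    [CommRing C] [Algebra R C] [Algebra A C] [IsScalarTower R A C] :
    Nonempty ((C ⊗[A] M) ≃ₗ[C] (C ⊗[R] N)) :=
  ⟨(AlgebraTensorModule.congr (LinearEquiv.refl C C) hg.equiv.symm).trans
    (AlgebraTensorModule.cancelBaseChange R A C C N)⟩

include B₀ in
theorem exists_model_flat [Module.Flat A (A ⊗[A₀] M₀)] :
    ∃ (R₀ : Subalgebra ℤ A₀) (N₀ : Type u) (_ : AddCommGroup N₀) (_ : Module R₀ N₀) (g : N₀ →ₗ[R₀] M₀)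
      (s : Finset A), Algebra.FiniteType ℤ R₀ ∧ IsBaseChange A₀ g ∧
      Module.Flat (Algebra.adjoin R₀ (s : Set A)) (Algebra.adjoin R₀ (s : Set A) ⊗[R₀] N₀) := by
  obtain ⟨R₀, S₀, N₀, _, _, _, _, _, _, _, _, _, _, g, h1, -, h2, h3, -, h4, h5⟩ :=
    FlatA.Model.exists_model (R := A₀) (S := B₀) (M := M₀) ∅ ∅
  have t1 : IsScalarTower R₀ A₀ M₀ := IsScalarTower.of_algebraMap_smul fun _ _ => rfl
  have t2 : IsScalarTower R₀ S₀ M₀ := IsScalarTower.of_algebraMap_smul fun r x => by
    rw [← algebraMap_smul B₀ (algebraMap R₀ S₀ r) x, ← IsScalarTower.algebraMap_apply R₀ S₀ B₀,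
      IsScalarTower.algebraMap_apply R₀ A₀ B₀, algebraMap_smul, algebraMap_smul]
  have h6 : IsBaseChange A₀ (g.restrictScalars R₀) := FlatA.FlatDescent.isBaseChange_restrictScalars g h5
  obtain ⟨e⟩ := flat_of_isBaseChange (C := A) _ h6
  have : Module.Flat A (A ⊗[R₀] N₀) := Module.Flat.of_linearEquiv e.symm
  obtain ⟨s, hs⟩ := Etbase.FlatStageModule.exists_flat_stage (A₀ := R₀) (A := A) S₀ N₀
  exact ⟨R₀, N₀, _, _, g.restrictScalars R₀, s, R₀.fg_iff_finiteType.mp h1, h6, hs⟩

include B₀ in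
/-- **Flatness descends to a finitely presented stage.** -/
theorem exists_finitePresentation_flat [Module.Flat A (A ⊗[A₀] M₀)] :
    ∃ (A₁ : Type u) (_ : CommRing A₁) (_ : Algebra A₀ A₁) (_ : A₁ →ₐ[A₀] A),
      Algebra.FinitePresentation A₀ A₁ ∧ Module.Flat A₁ (A₁ ⊗[A₀] M₀) := by
  obtain ⟨R₀, N₀, _, _, g, s, h1, h2, h3⟩ := exists_model_flat (A₀ := A₀) (A := A) B₀ M₀
  have : IsNoetherianRing R₀ := Algebra.FiniteType.isNoetherianRing ℤ R₀
  let A' := Algebra.adjoin R₀ (s : Set A)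
  have : Algebra.FiniteType R₀ A' := A'.fg_iff_finiteType.mp ⟨s, rfl⟩
  have : Algebra.FinitePresentation R₀ A' := Algebra.FinitePresentation.of_finiteType.mp inferInstance
  let A₁ := A₀ ⊗[R₀] A'
  let : Algebra A' A₁ := Algebra.TensorProduct.rightAlgebra
  have : IsScalarTower R₀ A' A₁ := Algebra.TensorProduct.right_isScalarTower
  refine ⟨A₁, inferInstance, inferInstance, Algebra.TensorProduct.lift (Algebra.ofId A₀ A)
    A'.val (fun _ _ => Commute.all _ _), inferInstance, ?_⟩
  obtain ⟨e⟩ := flat_of_isBaseChange (C := A₁) g h2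
  have e' : (A₁ ⊗[A'] (A' ⊗[R₀] N₀)) ≃ₗ[A₁] (A₁ ⊗[R₀] N₀) := AlgebraTensorModule.cancelBaseChange R₀ A' A₁ A₁ N₀
  exact Module.Flat.of_linearEquiv (e.trans e'.symm)

end

end K120.FlatStage
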