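import Groth.Agent.EGA43.K120.FlatPt
import Groth.Agent.EGA43.K120.FlatStage
import Groth.Agent.Ega43.LimBC

/-!
# Flatness over a cofiltered limit of schemes with affine transition maps comes from a stage
-/

set_option autoImplicit false
set_option backward.isDefEq.respectTransparency false
universe u
open CategoryTheory AlgebraicGeometry Limits TensorProduct

namespace K120.FlatLimit

open Groth.Agent Groth.Agent.Ega43.LimBC K120.FlatPt

section

variable {I : Type u} [SmallCategory I] [IsCofiltered I]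
    {D : I ⥤ Scheme.{u}} {c : Limits.Cone D} (hc : Limits.IsLimit c)
    [∀ (i j : I) (φ : i ⟶ j), IsAffineHom (D.map φ)] {i₀ : I}
    {X₀ Y₀ : Scheme.{u}} {f₀ : X₀ ⟶ Y₀} (g₀ : Y₀ ⟶ D.obj i₀)
    [LocallyOfFinitePresentation f₀] {F₀ : X₀.Modules} (hq : Coh.IsQCoh F₀) (hfp : CohB1.IsFP F₀)

include hc hq hfp in
/-- The statement on an affine open of the source. -/
theorem exists_stage_of_affine {U : X₀.Opens} {V : Y₀.Opens} (hU : IsAffineOpen U) (hV : IsAffineOpen V)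
    (e : U ≤ f₀ ⁻¹ᵁ V) (h : ∀ x ∈ U, ∀ s, FlatPt f₀ F₀ (pullback.fst g₀ (c.π.app i₀)) x s) :
    ∃ j : Over i₀, ∀ x ∈ U, ∀ s, FlatPt f₀ F₀ (pullback.fst g₀ (D.map j.hom)) x s := by
  have haff : ∀ i, IsAffineHom (c.π.app i) := fun i => isAffineHom_π_app _ _ hc i
  let t : pullback g₀ (c.π.app i₀) ⟶ Y₀ := pullback.fst g₀ (c.π.app i₀)
  have ht : IsAffineHom t := MorphismProperty.pullback_fst _ _ inferInstance
  let V' : (pullback g₀ (c.π.app i₀)).Opens := t ⁻¹ᵁ V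
  have hV' : IsAffineOpen V' := hV.preimage t
  let A₀ := Γ(Y₀, V)
  let i1 : Algebra Γ(Y₀, V) Γ(X₀, U) := (f₀.appLE V U e).hom.toAlgebra
  let i2 : Module Γ(Y₀, V) Γ(F₀, U) := VarietyB.FlatH0.modOver f₀ F₀ e
  let i3 : Algebra Γ(Y₀, V) Γ(pullback g₀ (c.π.app i₀), V') := VarietyB.FlatH0.algOver t (le_refl _)
  have t1 : IsScalarTower Γ(Y₀, V) Γ(X₀, U) Γ(F₀, U) := .of_algebraMap_smul fun _ _ => rfl
  have hfpB : Algebra.FinitePresentation Γ(Y₀, V) Γ(X₀, U) :=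
    f₀.finitePresentation_appLE hV hU e
  have hfpM : Module.FinitePresentation Γ(X₀, U) Γ(F₀, U) := Desc.FPSections.finitePresentation_sections hU hq hfp
  have hflat : Module.Flat Γ(pullback g₀ (c.π.app i₀), V')
      (Γ(pullback g₀ (c.π.app i₀), V') ⊗[Γ(Y₀, V)] Γ(F₀, U)) :=
    (flatPt_iff_flat hq hU hV hV' e (le_refl _)).mp fun x hx s _ => h x hx s
  obtain ⟨A₁, _, _, φ, hA₁, hA₁flat⟩ := K120.FlatStage.exists_finitePresentation_flat
    (A₀ := Γ(Y₀, V)) (A := Γ(pullback g₀ (c.π.app i₀), V')) Γ(X₀, U) Γ(F₀, U)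
  let b : Spec (CommRingCat.of A₁) ⟶ Y₀ := Spec.map (CommRingCat.ofHom (algebraMap Γ(Y₀, V) A₁)) ≫ hV.fromSpec
  have hb1 : LocallyOfFinitePresentation (Spec.map (CommRingCat.ofHom (algebraMap Γ(Y₀, V) A₁))) := by
    rw [HasRingHomProperty.Spec_iff (P := @LocallyOfFinitePresentation)]
    exact RingHom.finitePresentation_algebraMap.mpr hA₁
  have hb : LocallyOfFinitePresentation b := inferInstance
  -- the limit of the `V ×_{D i₀} D j`
  let ψ : pullback (V.ι ≫ g₀) (c.π.app i₀) ⟶ pullback g₀ (c.π.app i₀) :=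
    pullback.lift (pullback.fst _ _ ≫ V.ι) (pullback.snd _ _) (by rw [Category.assoc, pullback.condition])
  have hψ : Set.range ψ ⊆ Set.range V'.ι := by
    rw [Scheme.Opens.range_ι]
    rintro _ ⟨z, rfl⟩
    change t (ψ z) ∈ V
    rw [← Scheme.Hom.comp_apply, pullback.lift_fst, Scheme.Hom.comp_apply]
    exact (pullback.fst (V.ι ≫ g₀) (c.π.app i₀) z).2
  let a : pullback (V.ι ≫ g₀) (c.π.app i₀) ⟶ Spec (CommRingCat.of A₁) :=
    IsOpenImmersion.lift V'.ι ψ hψ ≫ hV'.isoSpec.hom ≫ Spec.map (CommRingCat.ofHom φ.toRingHom)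
  have ha : a ≫ b = pullback.fst (V.ι ≫ g₀) (c.π.app i₀) ≫ V.ι := by
    have h1 : Spec.map (CommRingCat.ofHom φ.toRingHom) ≫ b = hV'.fromSpec ≫ t := by
      rw [← IsAffineOpen.SpecMap_appLE_fromSpec t hV hV' (le_refl _), ← Spec.map_comp_assoc,
        ← CommRingCat.ofHom_comp]
      congr 2
      ext r
      exact φ.commutes r
    rw [Category.assoc, Category.assoc, h1, IsAffineOpen.isoSpec_hom_fromSpec_assoc,
      IsOpenImmersion.lift_fac_assoc, pullback.lift_fst]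
  let τ : bcDiagram D i₀ (V.ι ≫ g₀) ⟶ (Functor.const (Over i₀)).obj Y₀ :=
    { app j := pullback.fst _ _ ≫ V.ι
      naturality j k φ := by simp }
  have : IsAffine (V : Scheme.{u}) := hV
  have haffj : ∀ j : Over i₀, IsAffine ((bcDiagram D i₀ (V.ι ≫ g₀)).obj j) := fun j => by
    have : IsAffineHom (pullback.fst (V.ι ≫ g₀) (D.map j.hom)) := MorphismProperty.pullback_fst _ _ inferInstance
    exact isAffine_of_isAffineHom (pullback.fst (V.ι ≫ g₀) (D.map j.hom))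
  obtain ⟨j, w, hw, hw'⟩ := Scheme.exists_π_app_comp_eq_of_locallyOfFinitePresentation
    (bcDiagram D i₀ (V.ι ≫ g₀)) τ b (bcCone D c i₀ (V.ι ≫ g₀)) (isLimitBcCone D c i₀ (V.ι ≫ g₀) hc) a (by
      ext j
      dsimp [τ]
      rw [ha]
      exact (reassoc_of% (bcCone_π_fst D c i₀ (V.ι ≫ g₀) j)) _)
  refine ⟨j, fun x hx s z hz hz' => ?_⟩
  -- the open immersion `V ×_{D i₀} D j ⟶ Y₀ ×_{D i₀} D j`
  let r : pullback (V.ι ≫ g₀) (D.map j.hom) ⟶ pullback g₀ (D.map j.hom) :=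
    pullback.lift (pullback.fst _ _ ≫ V.ι) (pullback.snd _ _) (by rw [Category.assoc, pullback.condition])
  have H : IsPullback r (pullback.fst (V.ι ≫ g₀) (D.map j.hom)) (pullback.fst g₀ (D.map j.hom)) V.ι := by
    refine (IsPullback.of_right (h₁₂ := pullback.snd g₀ (D.map j.hom)) (h₂₂ := g₀) (v₁₃ := D.map j.hom) ?_ ?_
      (IsPullback.of_hasPullback _ _).flip)
    · rw [pullback.lift_snd]
      exact (IsPullback.of_hasPullback (V.ι ≫ g₀) (D.map j.hom)).flip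
    · exact pullback.lift_fst _ _ _
  have hr : IsOpenImmersion r := MorphismProperty.of_isPullback H.flip inferInstance
  have hs : pullback.fst g₀ (D.map j.hom) s ∈ V := by
    have h1 : f₀ x = pullback.fst g₀ (D.map j.hom) s := by
      rw [← hz, ← hz', ← Scheme.Hom.comp_apply, ← Scheme.Hom.comp_apply, pullback.condition]
    rw [← h1]
    exact e hx
  obtain ⟨s', hs', -⟩ := Scheme.exists_preimage_of_isPullback H s ⟨_, hs⟩ rfl
  have h2 : FlatPt f₀ F₀ (pullback.fst (V.ι ≫ g₀) (D.map j.hom) ≫ V.ι) x s' :=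
    flatPt_of_algebra hq hU hV e A₁ w hw' hA₁flat hx s'
  have h3 : FlatPt f₀ F₀ (pullback.fst g₀ (D.map j.hom)) x (r s') :=
    flatPt_of_comp (pullback.lift_fst _ _ _) h2
  rw [hs'] at h3
  exact h3 z hz hz'

include hc hq hfp in
/-- **Flatness over the limit comes from a stage.** -/
theorem exists_stage [CompactSpace X₀] (h : ∀ x s, FlatPt f₀ F₀ (pullback.fst g₀ (c.π.app i₀)) x s) :
    ∃ j : Over i₀, ∀ x s, FlatPt f₀ F₀ (pullback.fst g₀ (D.map j.hom)) x s := by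
  classical
  have h1 : ∀ x : X₀, ∃ (U : X₀.Opens), x ∈ U ∧ ∃ j : Over i₀, ∀ x ∈ U, ∀ s,
      FlatPt f₀ F₀ (pullback.fst g₀ (D.map j.hom)) x s := by
    intro x
    obtain ⟨V, hV, hxV, -⟩ := exists_isAffineOpen_mem_and_subset (x := f₀ x) (U := ⊤) trivial
    obtain ⟨U, hU, hxU, hUV⟩ := exists_isAffineOpen_mem_and_subset (x := x) (U := f₀ ⁻¹ᵁ V) hxV
    exact ⟨U, hxU, exists_stage_of_affine hc g₀ hq hfp hU hV hUV fun x _ s => h x s⟩
  choose U hU j hj using h1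
  obtain ⟨S, hS⟩ := CompactSpace.elim_nhds_subcover (fun x => (U x : Set X₀)) (fun x => (U x).2.mem_nhds (hU x))
  obtain ⟨k, hk⟩ := IsCofiltered.inf_objs_exists (S.image j)
  refine ⟨k, fun x s => ?_⟩
  obtain ⟨y, hy, hxy⟩ : ∃ y ∈ S, x ∈ U y := by
    have : x ∈ (⊤ : Set X₀) := trivial
    rw [← hS] at this
    simpa using this
  obtain ⟨φ⟩ := hk (Finset.mem_image_of_mem j hy)
  exact flatPt_comp (bcDiagram_map_fst D i₀ g₀ φ) (hj y x hxy _)

end

end K120.FlatLimit
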