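import Groth.Agent.EGA43.K120.ArtinFamilySch
import Groth.Agent.Ega43.FlatAdic
import Groth.Agent.FlatA.FlatDescent
import Groth.Agent.S1471
import Mathlib.RingTheory.HopkinsLevitzki

/-!
# Descent of flatness along a family of local rings, adic version
-/

set_option autoImplicit false
universe u
open CategoryTheory AlgebraicGeometry Limits TensorProduct IsLocalRing

namespace K120.AdicFamily

open Groth.Agent K120.FlatPt K120.FlatPtAlg

section Ring

variable {A A₁ B B₁ M N : Type u} [CommRing A] [CommRing A₁] [CommRing B] [CommRing B₁] [Algebra A A₁] [Algebra A B]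
  [Algebra A₁ B₁] [Algebra B B₁] [Algebra A B₁] [IsScalarTower A A₁ B₁] [IsScalarTower A B B₁]
  [Algebra.IsPushout A A₁ B B₁] [AddCommGroup M] [Module B M] [Module A M] [IsScalarTower A B M]
  [AddCommGroup N] [Module B₁ N] [Module B N] [IsScalarTower B B₁ N] [Module A₁ N] [IsScalarTower A₁ B₁ N]

include A A₁ in
theorem surjective_of_isPushout (hsurj : Function.Surjective (algebraMap A A₁)) :
    Function.Surjective (algebraMap B B₁) := by
  intro x
  have h := Algebra.IsPushout.out (R := A) (S := A₁) (R' := B) (S' := B₁)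
  induction x using h.inductionOn with
  | zero => exact ⟨0, map_zero _⟩
  | tmul b => exact ⟨b, rfl⟩
  | smul a x hx =>
    obtain ⟨a, rfl⟩ := hsurj a
    obtain ⟨b, rfl⟩ := hx
    exact ⟨algebraMap A B a * b, by
      rw [map_mul, ← IsScalarTower.algebraMap_apply, Algebra.smul_def, ← IsScalarTower.algebraMap_apply]⟩
  | add x y hx hy =>
    obtain ⟨b, rfl⟩ := hx
    obtain ⟨c, rfl⟩ := hy
    exact ⟨b + c, map_add _ _ _⟩

/-- Localization and reduction modulo an ideal of the base commute. -/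
theorem flat_tensor_of_flatAt (hsurj : Function.Surjective (algebraMap A A₁))
    (g : M →ₗ[B] N) (hg : IsBaseChange B₁ g) (q : Ideal B) [q.IsPrime] (q₁ : Ideal B₁) [q₁.IsPrime]
    (hq : q₁.comap (algebraMap B B₁) = q) (h : Module.Flat A₁ (LocalizedModule q₁.primeCompl N)) :
    Module.Flat A₁ (A₁ ⊗[A] LocalizedModule q.primeCompl M) := by
  have hsurj' := surjective_of_isPushout (A := A) (A₁ := A₁) (B := B) (B₁ := B₁) hsurj
  let _ : Module A N := Module.compHom N (algebraMap A B)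
  have t1 : IsScalarTower A B N := .of_algebraMap_smul fun _ _ => rfl
  have t2 : IsScalarTower A A₁ N := .of_algebraMap_smul fun a n => by
    rw [← algebraMap_smul B₁ (algebraMap A A₁ a) n, ← IsScalarTower.algebraMap_apply,
      IsScalarTower.algebraMap_apply A B B₁, algebraMap_smul, algebraMap_smul]
  have hgA : IsBaseChange A₁ (g.restrictScalars A) := FlatA.FlatDescent.isBaseChange_restrictScalars g hg
  -- `M ⊗ A₁ ≃ N` over `B`
  let e₀ : M ⊗[A] A₁ ≃+ N := ((TensorProduct.comm A M A₁).trans (hgA.equiv.restrictScalars A)).toAddEquiv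
  have he₀ : ∀ (m : M) (a : A₁), e₀ (m ⊗ₜ a) = a • g m := fun m a => hgA.equiv_tmul a m
  let e : M ⊗[A] A₁ ≃ₗ[B] N := e₀.toLinearEquiv (by
    intro b x
    induction x using TensorProduct.induction_on with
    | zero => rw [smul_zero, map_zero, smul_zero]
    | add x y hx hy => rw [smul_add, map_add, hx, hy, map_add, smul_add]
    | tmul m a =>
      rw [TensorProduct.smul_tmul', he₀, he₀, map_smul, ← algebraMap_smul B₁ a, ← algebraMap_smul B₁ b,
        ← algebraMap_smul B₁ b, ← algebraMap_smul B₁ a, smul_comm])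
  let L₁ := LocalizedModule q₁.primeCompl N
  let f₁ : N →ₗ[B] L₁ := (LocalizedModule.mkLinearMap q₁.primeCompl N).restrictScalars B
  have hS : q₁.primeCompl = Algebra.algebraMapSubmonoid B₁ q.primeCompl := by
    ext x
    obtain ⟨b, rfl⟩ := hsurj' x
    constructor
    · intro hb
      exact ⟨b, fun h => hb (by rw [← hq] at h; exact h), rfl⟩
    · rintro ⟨c, hc, hcb⟩
      change algebraMap B B₁ b ∉ q₁
      rw [← hcb]
      intro h
      exact hc (by rw [← hq]; exact h)
  have hf₁ : IsLocalizedModule q.primeCompl f₁ := by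
    have : IsLocalizedModule (Algebra.algebraMapSubmonoid B₁ q.primeCompl) (LocalizedModule.mkLinearMap q₁.primeCompl N) := by
      rw [← hS]
      infer_instance
    exact IsLocalizedModule.restrictScalars q.primeCompl (LocalizedModule.mkLinearMap q₁.primeCompl N)
  let f₂ := AlgebraTensorModule.rTensor A A₁ (LocalizedModule.mkLinearMap q.primeCompl M)
  have hf₂ : IsLocalizedModule q.primeCompl f₂ := inferInstance
  let e₂ : L₁ ≃ₗ[B] (LocalizedModule q.primeCompl M) ⊗[A] A₁ :=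
    IsLocalizedModule.linearEquiv q.primeCompl (f₁ ∘ₗ e.toLinearMap) f₂
  let _ : Module A L₁ := Module.compHom L₁ (algebraMap A B)
  have t4 : IsScalarTower A B L₁ := .of_algebraMap_smul fun _ _ => rfl
  let e₃ : L₁ ≃ₗ[A] A₁ ⊗[A] (LocalizedModule q.primeCompl M) :=
    (e₂.restrictScalars A).trans (TensorProduct.comm A _ _)
  have t3 : IsScalarTower A A₁ L₁ := .of_algebraMap_smul fun a n => by
    rw [← algebraMap_smul B₁ (algebraMap A A₁ a) n, ← IsScalarTower.algebraMap_apply,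
      IsScalarTower.algebraMap_apply A B B₁, algebraMap_smul, algebraMap_smul]
  exact Module.Flat.of_linearEquiv (LinearEquiv.extendScalarsOfSurjective hsurj e₃).symm

end Ring

/-- Base change of `FlatPt`: flatness over `T'` of the pullback of `F` can be computed from `X_T → T`. -/
theorem flatPt_of_pullback {X Y T T' P : Scheme.{u}} {f : X ⟶ Y} {F : X.Modules} {t : T ⟶ Y} {p : P ⟶ X} {q : P ⟶ T}
    (H : IsPullback p q f t) (r : T' ⟶ T) {t' : T' ⟶ Y} (ht' : r ≫ t = t') {z : P} {s : T'}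
    (h : FlatPt f F t' (p z) s) : FlatPt q ((Scheme.Modules.pullback p).obj F) r z s := by
  subst ht'
  have H' : IsPullback (pullback.fst q r ≫ p) (pullback.snd q r) f (r ≫ t) :=
    (IsPullback.of_hasPullback q r).paste_horiz H
  rw [flatPt_iff_of_isPullback H'] at h
  intro w hw hw'
  exact Models2.FlatIso.isFlatOverAt_of_iso _ ((Scheme.Modules.pullbackComp (pullback.fst q r) p).app F).symm w
    (h w (by rw [Scheme.Hom.comp_apply, hw]) hw')

theorem exists_prime_over {A B : Type u} [CommRing A] [IsLocalRing A] [CommRing B] [Algebra A B] (J : Ideal A)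
    (hJm : J ≤ maximalIdeal A) (q : Ideal B) [q.IsPrime] (hq : q.comap (algebraMap A B) = maximalIdeal A) :
    ∃ (q₁ : Ideal ((A ⧸ J) ⊗[A] B)) (_ : q₁.IsPrime),
      q₁.comap (Algebra.TensorProduct.includeRight : B →ₐ[A] (A ⧸ J) ⊗[A] B).toRingHom = q := by
  let φ : (A ⧸ J) →ₐ[A] (B ⧸ q) := Ideal.Quotient.liftₐ J (Algebra.ofId A (B ⧸ q)) (fun a ha => by
    have h1 : algebraMap A B a ∈ q := by
      have := hJm ha
      rw [← hq] at this
      exact this
    exact Ideal.Quotient.eq_zero_iff_mem.mpr h1)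
  let ψ : (A ⧸ J) ⊗[A] B →ₐ[A] (B ⧸ q) :=
    Algebra.TensorProduct.lift φ (Ideal.Quotient.mkₐ A q) (fun _ _ => Commute.all _ _)
  refine ⟨RingHom.ker ψ.toRingHom, RingHom.ker_isPrime _, ?_⟩
  ext b
  change ψ ((1 : A ⧸ J) ⊗ₜ[A] b) = 0 ↔ _
  rw [Algebra.TensorProduct.lift_tmul, map_one, one_mul]
  exact Ideal.Quotient.eq_zero_iff_mem

theorem flatPt_reduction {A A₁ B B₁ M R R' : Type u} [CommRing A] [CommRing A₁] [CommRing B] [CommRing B₁]
    [Algebra A A₁] [Algebra A B] [Algebra A₁ B₁] [Algebra B B₁] [Algebra A B₁] [IsScalarTower A A₁ B₁]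
    [IsScalarTower A B B₁] [Algebra.IsPushout A A₁ B B₁] [AddCommGroup M] [Module B M]
    [CommRing R] [IsLocalRing R] [CommRing R'] [IsLocalRing R'] [Algebra A R] [Algebra A₁ R'] (ρ : R →+* R')
    (hρ : Function.Surjective ρ)
    (hcomm : ρ.comp (algebraMap A R) = (algebraMap A₁ R').comp (algebraMap A A₁))
    (q : Ideal B) [q.IsPrime] (q₁ : Ideal B₁) [q₁.IsPrime] (hq : q₁.comap (algebraMap B B₁) = q)
    (h : FlatPt (Spec.map (CommRingCat.ofHom (algebraMap A B)))
      (tilde (R := CommRingCat.of B) (ModuleCat.of B M)) (Spec.map (CommRingCat.ofHom (algebraMap A R))) (pt q)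
      (pt (IsLocalRing.maximalIdeal R))) :
    FlatPt (Spec.map (CommRingCat.ofHom (algebraMap A₁ B₁)))
      (tilde (R := CommRingCat.of B₁) (ModuleCat.of B₁ (B₁ ⊗[B] M))) (Spec.map (CommRingCat.ofHom (algebraMap A₁ R')))
      (pt q₁) (pt (IsLocalRing.maximalIdeal R')) := by
  have h2 : Spec.map (CommRingCat.ofHom ρ) (pt (maximalIdeal R')) = pt (maximalIdeal R) := by
    rw [map_pt, pt_eq_iff]
    exact IsLocalRing.eq_maximalIdeal (Ideal.comap_isMaximal_of_surjective _ hρ)
  rw [← h2] at h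
  have h3 := flatPt_comp (r := Spec.map (CommRingCat.ofHom ρ)) rfl h
  have H : IsPullback (Spec.map (CommRingCat.ofHom (algebraMap B B₁))) (Spec.map (CommRingCat.ofHom (algebraMap A₁ B₁)))
      (Spec.map (CommRingCat.ofHom (algebraMap A B))) (Spec.map (CommRingCat.ofHom (algebraMap A A₁))) :=
    isPullback_SpecMap_of_isPushout _ _ _ _ (CommRingCat.isPushout_of_isPushout A A₁ B B₁).flip
  have h4 : pt q = Spec.map (CommRingCat.ofHom (algebraMap B B₁)) (pt q₁) := by
    rw [map_pt, pt_eq_iff, hq]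
  rw [h4] at h3
  have h5 := flatPt_of_pullback (z := pt q₁) (s := pt (maximalIdeal R')) H
    (Spec.map (CommRingCat.ofHom (algebraMap A₁ R'))) (by
      rw [← Spec.map_comp, ← Spec.map_comp, ← CommRingCat.ofHom_comp, ← CommRingCat.ofHom_comp, hcomm]) h3
  exact (flatPt_iso (Ega1.TildePullback.pullbackTildeIso B B₁ M)).mp h5

theorem isLocalRing_quotient {A : Type*} [CommRing A] [IsLocalRing A] (J : Ideal A) (hJ : J ≠ ⊤) :
    IsLocalRing (A ⧸ J) := by
  have : Nontrivial (A ⧸ J) := Ideal.Quotient.nontrivial_iff.mpr hJ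
  exact IsLocalRing.of_surjective' (Ideal.Quotient.mk J) Ideal.Quotient.mk_surjective

theorem isArtinianRing_quotient {A : Type*} [CommRing A] [IsNoetherianRing A] [IsLocalRing A] (J : Ideal A) (hJ : J ≠ ⊤)
    {K : ℕ} (hK : maximalIdeal A ^ K ≤ J) : IsArtinianRing (A ⧸ J) := by
  have := isLocalRing_quotient J hJ
  have hJm : J ≤ maximalIdeal A := IsLocalRing.le_maximalIdeal hJ
  have hmax : maximalIdeal (A ⧸ J) = (maximalIdeal A).map (Ideal.Quotient.mk J) := by
    have h1 : ((maximalIdeal A).map (Ideal.Quotient.mk J)).IsMaximal :=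
      Ideal.IsMaximal.map_of_surjective_of_ker_le Ideal.Quotient.mk_surjective (by rwa [Ideal.mk_ker])
    exact (IsLocalRing.eq_maximalIdeal h1).symm
  rw [isArtinianRing_iff_isNilpotent_maximalIdeal]
  refine ⟨K, ?_⟩
  rw [hmax, ← Ideal.map_pow, Ideal.zero_eq_bot, eq_bot_iff, Ideal.map_le_iff_le_comap]
  intro a ha
  exact Ideal.Quotient.eq_zero_iff_mem.mpr (hK ha)

theorem pow_ne_top {R : Type*} [CommRing R] [IsLocalRing R] {n : ℕ} (hn : n ≠ 0) : maximalIdeal R ^ n ≠ ⊤ := fun h =>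
  (IsLocalRing.maximalIdeal.isMaximal R).ne_top (top_le_iff.mp (h ▸ Ideal.pow_le_self hn))

/-- Artinian reduction step, abstract form. -/
theorem flat_artinian {A A₁ B M : Type u} [CommRing A] [CommRing A₁] [IsLocalRing A₁] [IsArtinianRing A₁] [CommRing B]
    [Algebra A A₁] (hA₁ : Function.Surjective (algebraMap A A₁))
    [Algebra A B] [Algebra.FiniteType A B] [AddCommGroup M] [Module B M] [Module A M]
    [IsScalarTower A B M] [Module.Finite B M]
    {ι ι' : Type*} (R : ι → Type u) [∀ i, CommRing (R i)] [∀ i, IsLocalRing (R i)] [∀ i, Algebra A (R i)]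
    (R' : ι' → Type u) [∀ i, CommRing (R' i)] [∀ i, IsLocalRing (R' i)] [∀ i, Algebra A₁ (R' i)]
    (hinj : ∀ a : A₁, (∀ p, algebraMap A₁ (R' p) a = 0) → a = 0)
    (k : ι' → ι) (ρ : ∀ p, R (k p) →+* R' p) (hρ : ∀ p, Function.Surjective (ρ p))
    (hcomm : ∀ p, (ρ p).comp (algebraMap A (R (k p))) = (algebraMap A₁ (R' p)).comp (algebraMap A A₁))
    (q : Ideal B) [q.IsPrime] (q₁ : Ideal (A₁ ⊗[A] B)) [q₁.IsPrime]
    (hq : q₁.comap (Algebra.TensorProduct.includeRight : B →ₐ[A] A₁ ⊗[A] B).toRingHom = q)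
    (hflat : ∀ i, FlatPt (Spec.map (CommRingCat.ofHom (algebraMap A B)))
      (tilde (R := CommRingCat.of B) (ModuleCat.of B M)) (Spec.map (CommRingCat.ofHom (algebraMap A (R i)))) (pt q)
      (pt (IsLocalRing.maximalIdeal (R i)))) : Module.Flat A₁ (A₁ ⊗[A] LocalizedModule q.primeCompl M) := by
  let i1 : Algebra B (A₁ ⊗[A] B) := Algebra.TensorProduct.rightAlgebra
  have t1 : IsScalarTower A B (A₁ ⊗[A] B) := Algebra.TensorProduct.right_isScalarTower
  have hB₁n : IsNoetherianRing (A₁ ⊗[A] B) := Algebra.FiniteType.isNoetherianRing A₁ _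
  have key : FlatCA.FlatAt A₁ q₁ ((A₁ ⊗[A] B) ⊗[B] M) :=
    K120.ArtinFamilySch.flatAt_of_family (A := A₁) (B := A₁ ⊗[A] B) (M := (A₁ ⊗[A] B) ⊗[B] M) R' hinj q₁
      fun p => flatPt_reduction (A := A) (A₁ := A₁) (B := B) (B₁ := A₁ ⊗[A] B) (R' := R' p) (ρ p) (hρ p) (hcomm p)
        q q₁ hq (hflat (k p))
  have hbc : IsBaseChange (A₁ ⊗[A] B) (TensorProduct.mk B (A₁ ⊗[A] B) M 1) := TensorProduct.isBaseChange B M (A₁ ⊗[A] B)
  have key' : Module.Flat A₁ (LocalizedModule q₁.primeCompl ((A₁ ⊗[A] B) ⊗[B] M)) := key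
  exact flat_tensor_of_flatAt (A := A) (A₁ := A₁) (B := B) (B₁ := A₁ ⊗[A] B) (N := (A₁ ⊗[A] B) ⊗[B] M) hA₁
    (TensorProduct.mk B (A₁ ⊗[A] B) M 1) hbc q q₁ hq key'

/-- Artinian reduction step. -/
theorem flat_quotient {A B M : Type u} [CommRing A] [IsNoetherianRing A] [IsLocalRing A] [CommRing B]
    [Algebra A B] [Algebra.FiniteType A B] [AddCommGroup M] [Module B M] [Module A M]
    [IsScalarTower A B M] [Module.Finite B M]
    {ι : Type*} (R : ι → Type u) [∀ i, CommRing (R i)] [∀ i, IsLocalRing (R i)] [∀ i, Algebra A (R i)]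
    (J : Ideal A) (hJ : J ≠ ⊤) {K : ℕ} (hK : maximalIdeal A ^ K ≤ J)
    (s : Finset (ι × ℕ)) (hJs : ∀ a, a ∈ J ↔ ∀ p ∈ s, algebraMap A (R p.1) a ∈ maximalIdeal (R p.1) ^ p.2)
    (q : Ideal B) [q.IsPrime] (hq : q.comap (algebraMap A B) = maximalIdeal A)
    (hflat : ∀ i, FlatPt (Spec.map (CommRingCat.ofHom (algebraMap A B)))
      (tilde (R := CommRingCat.of B) (ModuleCat.of B M)) (Spec.map (CommRingCat.ofHom (algebraMap A (R i)))) (pt q)
      (pt (IsLocalRing.maximalIdeal (R i)))) : Module.Flat (A ⧸ J) ((A ⧸ J) ⊗[A] LocalizedModule q.primeCompl M) := by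
  have hA₁l : IsLocalRing (A ⧸ J) := isLocalRing_quotient J hJ
  have hA₁a : IsArtinianRing (A ⧸ J) := isArtinianRing_quotient J hJ hK
  obtain ⟨q₁, hq₁, hq₁q⟩ := exists_prime_over J (IsLocalRing.le_maximalIdeal hJ) q hq
  let ι' := {p : ι × ℕ // p ∈ s ∧ p.2 ≠ 0}
  let R' : ι' → Type u := fun p => R p.1.1 ⧸ (maximalIdeal (R p.1.1) ^ p.1.2)
  have hR'l : ∀ p : ι', IsLocalRing (R' p) := fun p => isLocalRing_quotient _ (pow_ne_top p.2.2)
  let i2 : ∀ p : ι', Algebra (A ⧸ J) (R' p) := fun p => (Ideal.Quotient.lift J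
    ((Ideal.Quotient.mk (maximalIdeal (R p.1.1) ^ p.1.2)).comp (algebraMap A (R p.1.1))) (fun a ha =>
      Ideal.Quotient.eq_zero_iff_mem.mpr ((hJs a).mp ha p.1 p.2.1))).toAlgebra
  have hinj : ∀ a : A ⧸ J, (∀ p, algebraMap (A ⧸ J) (R' p) a = 0) → a = 0 := by
    intro a ha
    obtain ⟨a, rfl⟩ := Ideal.Quotient.mk_surjective a
    refine Ideal.Quotient.eq_zero_iff_mem.mpr ((hJs a).mpr fun p hp => ?_)
    by_cases h0 : p.2 = 0
    · rw [h0, pow_zero, Ideal.one_eq_top]
      trivial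
    · exact Ideal.Quotient.eq_zero_iff_mem.mp (ha ⟨p, hp, h0⟩)
  exact flat_artinian Ideal.Quotient.mk_surjective R R' hinj (fun p => p.1.1) (fun p => Ideal.Quotient.mk _)
    (fun p => Ideal.Quotient.mk_surjective) (fun p => rfl) q q₁ hq₁q hflat

/-- Ring form over a Noetherian local base. -/
theorem flatAt_of_family {A B M : Type u} [CommRing A] [IsNoetherianRing A] [IsLocalRing A] [CommRing B]
    [Algebra A B] [Algebra.FiniteType A B] [AddCommGroup M] [Module B M] [Module A M]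
    [IsScalarTower A B M] [Module.Finite B M]
    {ι : Type*} (R : ι → Type u) [∀ i, CommRing (R i)] [∀ i, IsLocalRing (R i)] [∀ i, Algebra A (R i)]
    [∀ i, IsLocalHom (algebraMap A (R i))]
    (htop : ∀ N : ℕ, ∃ s : Finset (ι × ℕ),
      ⨅ p ∈ s, Ideal.comap (algebraMap A (R p.1)) (maximalIdeal (R p.1) ^ p.2) ≤ maximalIdeal A ^ N)
    (q : Ideal B) [q.IsPrime] (hq : q.comap (algebraMap A B) = maximalIdeal A)
    (hflat : ∀ i, FlatPt (Spec.map (CommRingCat.ofHom (algebraMap A B)))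
      (tilde (R := CommRingCat.of B) (ModuleCat.of B M)) (Spec.map (CommRingCat.ofHom (algebraMap A (R i)))) (pt q)
      (pt (IsLocalRing.maximalIdeal (R i)))) : FlatCA.FlatAt A q M := by
  have hBn : IsNoetherianRing B := Algebra.FiniteType.isNoetherianRing A B
  let Bq := Localization.AtPrime q
  let P := LocalizedModule q.primeCompl M
  have hloc : IsLocalHom (algebraMap A Bq) := by
    refine ⟨fun a ha => ?_⟩
    by_contra h
    have h1 : a ∈ maximalIdeal A := (IsLocalRing.mem_maximalIdeal a).mpr h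
    rw [← hq] at h1
    have h2 : algebraMap B Bq (algebraMap A B a) ∈ maximalIdeal Bq :=
      (IsLocalization.AtPrime.to_map_mem_maximal_iff Bq q _).mpr h1
    rw [← IsScalarTower.algebraMap_apply] at h2
    exact (IsLocalRing.mem_maximalIdeal _).mp h2 ha
  refine Ega43.FlatAdic.flat_of_forall_exists_le_pow (S := Bq) (M := P) fun n => ?_
  obtain ⟨s, hs⟩ := htop n
  let J : Ideal A := ⨅ p ∈ s, Ideal.comap (algebraMap A (R p.1)) (maximalIdeal (R p.1) ^ p.2)
  refine ⟨J, hs, ?_⟩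
  by_cases hJ : J = ⊤
  · have h1 : Subsingleton (A ⧸ J) := Ideal.Quotient.subsingleton_iff.mpr hJ
    have h2 : Subsingleton ((A ⧸ J) ⊗[A] P) := Module.subsingleton (A ⧸ J) _
    infer_instance
  · refine flat_quotient R J hJ (K := s.sup Prod.snd) ?_ s ?_ q hq hflat
    · refine le_iInf₂ fun p hp => ?_
      rw [← Ideal.map_le_iff_le_comap, Ideal.map_pow]
      exact (Ideal.pow_right_mono (IsLocalRing.map_maximalIdeal_le (algebraMap A (R p.1))) _).trans
        (Ideal.pow_le_pow_right (Finset.le_sup (f := Prod.snd) hp))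
    · intro a
      simp only [J, Submodule.mem_iInf, Ideal.mem_comap]

/-- A chart around a point of a scheme locally of finite type over `Spec A`. -/
theorem exists_chart_spec {A : Type u} [CommRing A] {X : Scheme.{u}} (f : X ⟶ Spec (CommRingCat.of A))
    [LocallyOfFiniteType f] (F : X.Modules) (hF : Coh.IsCoh F) (x : X) :
    ∃ (B M : Type u) (_ : CommRing B) (_ : Algebra A B) (_ : AddCommGroup M) (_ : Module B M) (_ : Module A M)
      (_ : IsScalarTower A B M) (jU : Spec (CommRingCat.of B) ⟶ X) (q : Ideal B) (_ : q.IsPrime),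
      Algebra.FiniteType A B ∧ Module.Finite B M ∧ IsOpenImmersion jU ∧
      jU ≫ f = Spec.map (CommRingCat.ofHom (algebraMap A B)) ∧
      Nonempty ((Scheme.Modules.pullback jU).obj F ≅ tilde (R := CommRingCat.of B) (ModuleCat.of B M)) ∧
      jU (pt q) = x := by
  obtain ⟨U, hU, hxU, -⟩ := exists_isAffineOpen_mem_and_subset (x := x) (U := ⊤) trivial
  let a : CommRingCat.of A ⟶ Γ(X, U) := Spec.preimage (hU.fromSpec ≫ f)
  have ha : hU.fromSpec ≫ f = Spec.map a := (Spec.map_preimage _).symm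
  have haft : a.hom.FiniteType := by
    have h1 : LocallyOfFiniteType (Spec.map a) := by
      rw [← ha]
      infer_instance
    exact HasRingHomProperty.Spec_iff.mp h1
  let i1 : Algebra A Γ(X, U) := a.hom.toAlgebra
  let i2 : Module A Γ(F, U) := Module.compHom _ (algebraMap A Γ(X, U))
  have t1 : IsScalarTower A Γ(X, U) Γ(F, U) := .of_algebraMap_smul fun _ _ => rfl
  exact ⟨Γ(X, U), Γ(F, U), inferInstance, i1, inferInstance, inferInstance, i2, t1, hU.fromSpec,
    (hU.primeIdealOf ⟨x, hxU⟩).asIdeal, (hU.primeIdealOf ⟨x, hxU⟩).2, haft, Ega3B.DevQC.finite_sections hF hU,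
    inferInstance, ha, ⟨((Scheme.Modules.restrictFunctorIsoPullback hU.fromSpec).app F).symm ≪≫
      Models2.FreeRes.restrictFromSpecIso F hF.1 hU⟩, hU.fromSpec_primeIdealOf ⟨x, hxU⟩⟩

/-- Scheme version over a Noetherian local base. -/
theorem isFlatOverAt_of_family_local {A : Type u} [CommRing A] [IsNoetherianRing A] [IsLocalRing A] {X : Scheme.{u}}
    (f : X ⟶ Spec (CommRingCat.of A)) [LocallyOfFiniteType f] (F : X.Modules) (hF : Coh.IsCoh F) (x : X)
    (hx : f x = pt (maximalIdeal A))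
    {ι : Type*} (R : ι → Type u) [∀ i, CommRing (R i)] [∀ i, IsLocalRing (R i)] [∀ i, Algebra A (R i)]
    [∀ i, IsLocalHom (algebraMap A (R i))]
    (htop : ∀ N : ℕ, ∃ s : Finset (ι × ℕ),
      ⨅ p ∈ s, Ideal.comap (algebraMap A (R p.1)) (maximalIdeal (R p.1) ^ p.2) ≤ maximalIdeal A ^ N)
    (hflat : ∀ i, FlatPt f F (Spec.map (CommRingCat.ofHom (algebraMap A (R i)))) x (pt (maximalIdeal (R i)))) :
    FlatMod.IsFlatOverAt f F x := by
  obtain ⟨B, M, _, _, _, _, _, _, jU, q, hq, h1, h2, h3, w, ⟨α⟩, rfl⟩ := exists_chart_spec f F hF x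
  have w' : jU ≫ f = Spec.map (CommRingCat.ofHom (algebraMap A B)) ≫ 𝟙 _ := by rw [w, Category.comp_id]
  rw [isFlatOverAt_iff_chart (A := A) (M := M) jU (𝟙 _) w' α q]
  refine flatAt_of_family R htop q ?_ fun i => ?_
  · rw [← Scheme.Hom.comp_apply, w, map_pt, pt_eq_iff] at hx
    exact hx
  · have h4 := hflat i
    rwa [flatPt_source jU, w, flatPt_iso α] at h4

end K120.AdicFamily
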