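import Mathlib.RingTheory.Flat.Localization
import Mathlib.RingTheory.Filtration
import Mathlib.RingTheory.LocalRing.Module
import Mathlib.RingTheory.Artinian.Module
import Mathlib.RingTheory.Artinian.Ring
import Mathlib.Algebra.Module.Torsion.Basic
import Mathlib.RingTheory.IsTensorProduct
import Groth.Agent.Ega43.NilpotentFree

/-!
# Descent of flatness at a prime over an Artinian local ring, along a jointly injective family (ring part)
-/

set_option autoImplicit false
universe u
open TensorProduct IsLocalRing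

namespace K120.ArtinFamily

/-- Krull's intersection theorem for a finite family of elements over an Artinian base. -/
theorem exists_pow {A B P : Type*} [CommRing A] [IsArtinianRing A] [CommRing B] [IsLocalRing B] [IsNoetherianRing B]
    [Algebra A B] [AddCommGroup P] [Module B P] [Module A P] [IsScalarTower A B P] [Module.Finite B P]
    (m : Ideal A) {J : Type*} [Finite J] [Fintype J] (x : J → P)
    (hx : ∀ a : J → A, ∑ j, a j • x j ∈ (m.map (algebraMap A B)) • (⊤ : Submodule B P) → ∀ j, a j ∈ m) :
    ∃ r : ℕ, ∀ a : J → A, ∑ j, a j • x j ∈ (m.map (algebraMap A B)) • (⊤ : Submodule B P) ⊔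
      (maximalIdeal B ^ r) • (⊤ : Submodule B P) → ∀ j, a j ∈ m := by
  let L₀ : Submodule B P := (m.map (algebraMap A B)) • ⊤
  let L : ℕ → Submodule B P := fun r => L₀ ⊔ (maximalIdeal B ^ r) • ⊤
  have hL : Antitone L := fun r s h => sup_le_sup le_rfl (Submodule.smul_mono_left (Ideal.pow_le_pow_right h))
  have hkrull : ⨅ r, L r = L₀ := by
    apply le_antisymm
    · intro y hy
      have h1 := Ideal.iInf_pow_smul_eq_bot_of_isLocalRing (R := B) (M := P ⧸ L₀) (maximalIdeal B)
        (IsLocalRing.maximalIdeal.isMaximal B).ne_top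
      have h2 : L₀.mkQ y ∈ (⨅ i : ℕ, maximalIdeal B ^ i • (⊤ : Submodule B (P ⧸ L₀))) := by
        rw [Submodule.mem_iInf]
        intro i
        have h3 := (Submodule.mem_iInf _).mp hy i
        obtain ⟨u, hu, v, hv, rfl⟩ := Submodule.mem_sup.mp h3
        rw [map_add, (Submodule.Quotient.mk_eq_zero L₀).mpr hu |> (fun h => (h : L₀.mkQ u = 0)), zero_add]
        have h4 : L₀.mkQ v ∈ Submodule.map L₀.mkQ ((maximalIdeal B ^ i) • ⊤) := Submodule.mem_map_of_mem hv
        rw [Submodule.map_smul''] at h4
        exact Submodule.smul_mono le_rfl le_top h4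
      rw [h1, Submodule.mem_bot] at h2
      exact (Submodule.Quotient.mk_eq_zero L₀).mp h2
    · exact le_iInf fun r => le_sup_left
  let ev : (J → A) →ₗ[A] P := Fintype.linearCombination A x
  have hev : ∀ a, ev a = ∑ j, a j • x j := fun a => Fintype.linearCombination_apply A x a
  let K : ℕ →o (Submodule A (J → A))ᵒᵈ :=
    ⟨fun r => OrderDual.toDual (((L r).restrictScalars A).comap ev), fun r s h => by
      change ((L s).restrictScalars A).comap ev ≤ ((L r).restrictScalars A).comap ev
      exact Submodule.comap_mono (hL h)⟩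
  obtain ⟨r, hr⟩ := IsArtinian.monotone_stabilizes K
  refine ⟨r, fun a ha => hx a ?_⟩
  have h5 : ev a ∈ ⨅ r, L r := by
    rw [Submodule.mem_iInf]
    intro s
    rcases le_total r s with h | h
    · have h6 : ((L r).restrictScalars A).comap ev = ((L s).restrictScalars A).comap ev := hr s h
      have h7 : a ∈ ((L r).restrictScalars A).comap ev := by
        change ev a ∈ L r
        rw [hev]
        exact ha
      rw [h6] at h7
      exact h7
    · apply hL h
      rw [hev]
      exact ha
  rw [hkrull, hev] at h5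
  exact h5

/-- Linear independence is preserved by field extension. -/
theorem lin_indep_baseChange {A D K J : Type*} [CommRing A] [IsLocalRing A] [AddCommGroup D] [Module A D]
    (hD : ∀ a ∈ maximalIdeal A, ∀ d : D, a • d = 0) [Fintype J] (x : J → D)
    (hx : ∀ a : J → A, ∑ j, a j • x j = 0 → ∀ j, a j ∈ maximalIdeal A)
    [Field K] [Algebra A K] (l : J → K) (h : ∑ j, l j ⊗ₜ[A] x j = 0)
    (hK : ∀ a ∈ maximalIdeal A, algebraMap A K a = 0) : ∀ j, l j = 0 := by
  classical
  have htors : Module.IsTorsionBySet A D (maximalIdeal A : Set A) := fun d a => hD a.1 a.2 d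
  let k := A ⧸ maximalIdeal A
  let _ : Field k := Ideal.Quotient.field _
  let _ : Module k D := htors.module
  have : IsScalarTower A k D := htors.isScalarTower
  have hlin : LinearMap.ker (Fintype.linearCombination k x) = ⊥ := by
    rw [LinearMap.ker_eq_bot']
    intro a ha
    choose b hb using fun j => Ideal.Quotient.mk_surjective (a j)
    have h1 : ∑ j, b j • x j = 0 := by
      rw [Fintype.linearCombination_apply] at ha
      rw [← ha]
      refine Finset.sum_congr rfl fun j _ => ?_
      rw [← hb j]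
      exact (algebraMap_smul k (b j) (x j)).symm
    ext j
    rw [← hb j]
    exact Ideal.Quotient.eq_zero_iff_mem.mpr (hx b h1 j)
  obtain ⟨g, hg⟩ := LinearMap.exists_leftInverse_of_injective _ hlin
  intro j
  let _ : Algebra k K := (Ideal.Quotient.lift (maximalIdeal A) (algebraMap A K) hK).toAlgebra
  have : IsScalarTower A k K := IsScalarTower.of_algebraMap_eq fun a => by
    change _ = Ideal.Quotient.lift (maximalIdeal A) (algebraMap A K) hK (Ideal.Quotient.mk _ a)
    rw [Ideal.Quotient.lift_mk]
  let φ : D →ₗ[A] K := (Algebra.linearMap k K).restrictScalars A ∘ₗ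
    (LinearMap.proj j : (J → k) →ₗ[k] k).restrictScalars A ∘ₗ g.restrictScalars A
  have hφ : ∀ i, φ (x i) = if i = j then 1 else 0 := by
    intro i
    have h2 : g (x i) = Pi.single i 1 := by
      have h3 := LinearMap.congr_fun hg (Pi.single i 1)
      rw [LinearMap.comp_apply, Fintype.linearCombination_apply_single, one_smul] at h3
      exact h3
    change algebraMap k K (g (x i) j) = _
    rw [h2, Pi.single_apply]
    by_cases hij : i = j
    · rw [if_pos hij, if_pos hij.symm, map_one]
    · rw [if_neg hij, if_neg (Ne.symm hij), map_zero]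
  let ψ : K ⊗[A] D →ₗ[A] K := (LinearMap.mul' A K) ∘ₗ (LinearMap.lTensor K φ)
  have h4 := congrArg ψ h
  rw [map_sum, map_zero] at h4
  rw [← h4]
  have h5 : ∀ i, ψ (l i ⊗ₜ[A] x i) = if i = j then l j else 0 := by
    intro i
    change LinearMap.mul' A K (l i ⊗ₜ[A] φ (x i)) = _
    rw [hφ, LinearMap.mul'_apply]
    by_cases hij : i = j
    · rw [if_pos hij, if_pos hij, mul_one, hij]
    · rw [if_neg hij, if_neg hij, mul_zero]
  rw [Finset.sum_congr rfl fun i _ => h5 i, Finset.sum_ite_eq' Finset.univ j, if_pos (Finset.mem_univ _)]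

/-- Choice of the prime. -/
theorem exists_prime {B R C T : Type*} [CommRing B] [CommRing R] [IsLocalRing R] [CommRing C] [Algebra B C]
    [Algebra R C] [AddCommGroup T] [Module C T] (q : Ideal B) [q.IsPrime] (t : T) (ht : t ≠ 0)
    (h1 : ∀ b ∉ q, ∀ t : T, algebraMap B C b • t = 0 → t = 0)
    (h2 : ∀ b ∈ q, ∃ r : ℕ, algebraMap B C b ^ r • t = 0)
    (h3 : ∀ a ∈ maximalIdeal R, algebraMap R C a • t = 0) :
    ∃ (Q : Ideal C) (_ : Q.IsPrime), Q.comap (algebraMap B C) = q ∧ Q.comap (algebraMap R C) = maximalIdeal R ∧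
      ∀ c ∉ Q, c • t ≠ 0 := by
  let I : Ideal C := LinearMap.ker (LinearMap.toSpanSingleton C T t)
  have hI : ∀ c, c ∈ I ↔ c • t = 0 := fun c => Iff.rfl
  obtain ⟨Q, hQ, hIQ, hdisj⟩ := Ideal.exists_le_prime_disjoint I (q.primeCompl.map (algebraMap B C)) (by
    rw [Set.disjoint_left]
    rintro c hc ⟨b, hb, rfl⟩
    exact ht (h1 b hb t ((hI _).mp hc)))
  refine ⟨Q, hQ, ?_, ?_, fun c hc h => hc (hIQ ((hI c).mpr h))⟩
  · apply le_antisymm
    · intro b hb
      by_contra hbq
      exact Set.disjoint_left.mp hdisj hb ⟨b, hbq, rfl⟩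
    · intro b hb
      obtain ⟨r, hr⟩ := h2 b hb
      exact hQ.mem_of_pow_mem r (hIQ ((hI _).mpr hr))
  · symm
    refine (IsLocalRing.maximalIdeal.isMaximal R).eq_of_le (Ideal.IsPrime.ne_top (hQ.comap _)) ?_
    intro a ha
    exact hIQ ((hI _).mpr (h3 a ha))

section

variable {A B R C M N : Type u} [CommRing A] [IsArtinianRing A] [IsLocalRing A] [CommRing B] [IsNoetherianRing B]
  [CommRing R] [IsLocalRing R] [CommRing C]
  [Algebra A B] [Algebra A R] [Algebra B C] [Algebra R C] [Algebra A C] [IsScalarTower A B C] [IsScalarTower A R C]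
  [Algebra.IsPushout A R B C]
  [AddCommGroup M] [Module B M] [Module A M] [IsScalarTower A B M] [Module.Finite B M]
  [AddCommGroup N] [Module C N] [Module B N] [IsScalarTower B C N] [Module R N] [IsScalarTower R C N]

/-- For elements of `M` linearly independent at `q` modulo `m`, a nonzero relation in the fibre over `R` is detected
at some prime `Q` over `q` and `m_R`. -/
theorem exists_detect (q : Ideal B) [q.IsPrime] (g : M →ₗ[B] N) (hg : IsBaseChange C g) {J : Type u} [Fintype J] (x : J → M)
    (hx : ∀ a : J → A, ∑ j, a j • LocalizedModule.mkLinearMap q.primeCompl M (x j) ∈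
      ((maximalIdeal A).map (algebraMap A (Localization.AtPrime q))) •
        (⊤ : Submodule (Localization.AtPrime q) (LocalizedModule q.primeCompl M)) → ∀ j, a j ∈ maximalIdeal A)
    (l : J → R) (hl : ∃ j, l j ∉ maximalIdeal R) :
    ∃ (Q : Ideal C) (_ : Q.IsPrime), Q.comap (algebraMap B C) = q ∧ Q.comap (algebraMap R C) = maximalIdeal R ∧
      ∑ j, l j • LocalizedModule.mkLinearMap Q.primeCompl N (g (x j)) ∉
        (maximalIdeal R) • (⊤ : Submodule R (LocalizedModule Q.primeCompl N)) := by
  let Bq := Localization.AtPrime q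
  let P := LocalizedModule q.primeCompl M
  obtain ⟨r, hr⟩ := exists_pow (B := Bq) (P := P) (maximalIdeal A)
    (fun j => LocalizedModule.mkLinearMap q.primeCompl M (x j)) hx
  let L : Submodule Bq P := (((maximalIdeal A).map (algebraMap A Bq)) • ⊤) ⊔ ((maximalIdeal Bq ^ r) • ⊤)
  let D := P ⧸ L
  let δ : M →ₗ[B] D := (L.mkQ.restrictScalars B) ∘ₗ LocalizedModule.mkLinearMap q.primeCompl M
  have hD : ∀ a ∈ maximalIdeal A, ∀ d : D, a • d = 0 := by
    intro a ha d
    obtain ⟨y, rfl⟩ := L.mkQ_surjective d
    rw [← algebraMap_smul Bq a (L.mkQ y), ← map_smul]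
    refine (Submodule.Quotient.mk_eq_zero L).mpr (Submodule.mem_sup_left ?_)
    exact Submodule.smul_mem_smul (Ideal.mem_map_of_mem _ ha) trivial
  have hδ : ∀ a : J → A, ∑ j, a j • δ (x j) = 0 → ∀ j, a j ∈ maximalIdeal A := by
    intro a ha
    refine hr a ?_
    have h1 : ∑ j, a j • δ (x j) = L.mkQ (∑ j, a j • LocalizedModule.mkLinearMap q.primeCompl M (x j)) := by
      rw [map_sum]
      rfl
    rw [h1] at ha
    exact (Submodule.Quotient.mk_eq_zero L).mp ha
  let k := ResidueField R
  let T := (C ⊗[B] D) ⊗[R] k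
  let θ₁ : C ⊗[B] D →ₗ[C] T := (AlgebraTensorModule.mk R C (C ⊗[B] D) k).flip 1
  let θ : N →ₗ[C] T := θ₁ ∘ₗ (AlgebraTensorModule.lTensor C C δ) ∘ₗ hg.equiv.symm.toLinearMap
  have hθ : ∀ y : M, θ (g y) = ((1 : C) ⊗ₜ[B] δ y) ⊗ₜ[R] (1 : k) := by
    intro y
    have h1 : hg.equiv.symm (g y) = (1 : C) ⊗ₜ[B] y := by
      rw [LinearEquiv.symm_apply_eq, hg.equiv_tmul, one_smul]
    change θ₁ (AlgebraTensorModule.lTensor C C δ (hg.equiv.symm (g y))) = _
    rw [h1]
    rfl
  let e : T ≃ₗ[R] k ⊗[A] D := (TensorProduct.comm R (C ⊗[B] D) k).trans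
    (((AlgebraTensorModule.congr (LinearEquiv.refl k k) (Algebra.IsPushout.cancelBaseChange A R B C D)).trans
      (AlgebraTensorModule.cancelBaseChange A R k k D)).restrictScalars R)
  have he : ∀ y : M, e (θ (g y)) = (1 : k) ⊗ₜ[A] δ y := by
    intro y
    rw [hθ]
    have h1 : Algebra.IsPushout.cancelBaseChange A R B C D ((1 : C) ⊗ₜ[B] δ y) = (1 : R) ⊗ₜ[A] δ y := by
      rw [← LinearEquiv.eq_symm_apply, Algebra.IsPushout.cancelBaseChange_symm_tmul, map_one]
    change (AlgebraTensorModule.cancelBaseChange A R k k D)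
      ((1 : k) ⊗ₜ[R] (Algebra.IsPushout.cancelBaseChange A R B C D ((1 : C) ⊗ₜ[B] δ y))) = _
    rw [h1, AlgebraTensorModule.cancelBaseChange_tmul, one_smul]
  let t : T := ∑ j, l j • θ (g (x j))
  have ht : t ≠ 0 := by
    intro h
    have h1 := congrArg e h
    rw [map_sum, map_zero] at h1
    obtain ⟨j, hj⟩ := hl
    refine hj ?_
    rw [← IsLocalRing.residue_eq_zero_iff]
    refine lin_indep_baseChange (K := k) hD (fun j => δ (x j)) hδ (fun j => residue R (l j)) ?_ ?_ j
    · rw [← h1]
      refine Finset.sum_congr rfl fun j _ => ?_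
      rw [map_smul, he, TensorProduct.smul_tmul', Algebra.smul_def, mul_one]
      rfl
    · intro a ha
      have hnil : IsNilpotent (maximalIdeal A) := by
        rw [← IsLocalRing.jacobson_eq_maximalIdeal ⊥ bot_ne_top]
        exact IsArtinianRing.isNilpotent_jacobson_bot
      obtain ⟨n, hn⟩ := hnil
      have h2 : a ^ n = 0 := by
        have := Ideal.pow_mem_pow ha n
        rw [hn] at this
        exact this
      exact eq_zero_of_pow_eq_zero (n := n) (by rw [← map_pow, h2, map_zero])
  have hT : ∀ a ∈ maximalIdeal R, ∀ t : T, algebraMap R C a • t = 0 := by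
    intro a ha t
    induction t using TensorProduct.induction_on with
    | zero => rw [smul_zero]
    | add y z hy hz => rw [smul_add, hy, hz, add_zero]
    | tmul y z =>
      rw [TensorProduct.smul_tmul', algebraMap_smul, TensorProduct.smul_tmul, Algebra.smul_def]
      have : algebraMap R k a = 0 := (IsLocalRing.residue_eq_zero_iff a).mpr ha
      rw [this, zero_mul, TensorProduct.tmul_zero]
  let Φ : Bq → (T →ₗ[R] T) := fun u =>
    ((AlgebraTensorModule.lTensor C C ((LinearMap.lsmul Bq D u).restrictScalars B)).restrictScalars R).rTensor k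
  have hΦ : ∀ (b : B) (u : Bq) (t : T), Φ u (algebraMap B C b • t) = Φ (u * algebraMap B Bq b) t := by
    intro b u t
    induction t using TensorProduct.induction_on with
    | zero => simp only [smul_zero, map_zero]
    | add y z hy hz => simp only [smul_add, map_add, hy, hz]
    | tmul y z =>
      induction y using TensorProduct.induction_on with
      | zero => simp only [TensorProduct.zero_tmul, smul_zero, map_zero]
      | add y y' hy hy' => simp only [TensorProduct.add_tmul, smul_add, map_add, hy, hy']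
      | tmul c d =>
        change (((algebraMap B C b * c) ⊗ₜ[B] (u • d)) ⊗ₜ[R] z : T) = ((c ⊗ₜ[B] ((u * algebraMap B Bq b) • d)) ⊗ₜ[R] z : T)
        rw [← Algebra.smul_def, TensorProduct.smul_tmul, mul_comm u, mul_smul, algebraMap_smul]
  have hΦ1 : ∀ t, Φ 1 t = t := by
    intro t
    induction t using TensorProduct.induction_on with
    | zero => simp only [map_zero]
    | add y z hy hz => simp only [map_add, hy, hz]
    | tmul y z =>
      induction y using TensorProduct.induction_on with
      | zero => simp only [TensorProduct.zero_tmul, map_zero]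
      | add y y' hy hy' => simp only [TensorProduct.add_tmul, map_add, hy, hy']
      | tmul c d =>
        change (((c ⊗ₜ[B] ((1 : Bq) • d)) ⊗ₜ[R] z : T)) = _
        rw [one_smul]
  have hΦ0 : ∀ u, (∀ d : D, u • d = 0) → ∀ t, Φ u t = 0 := by
    intro u hu t
    induction t using TensorProduct.induction_on with
    | zero => simp only [map_zero]
    | add y z hy hz => simp only [map_add, hy, hz, add_zero]
    | tmul y z =>
      induction y using TensorProduct.induction_on with
      | zero => simp only [TensorProduct.zero_tmul, map_zero]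
      | add y y' hy hy' => simp only [TensorProduct.add_tmul, map_add, hy, hy', add_zero]
      | tmul c d =>
        change (((c ⊗ₜ[B] (u • d)) ⊗ₜ[R] z : T)) = _
        rw [hu, TensorProduct.tmul_zero, TensorProduct.zero_tmul]
  have hb1 : ∀ b ∉ q, ∀ t : T, algebraMap B C b • t = 0 → t = 0 := by
    intro b hb t ht0
    obtain ⟨u, hu⟩ := IsLocalization.map_units Bq (⟨b, hb⟩ : q.primeCompl)
    have h7 := hΦ b (u⁻¹ : Bqˣ) t
    rw [ht0, map_zero] at h7
    have h8 : ((u⁻¹ : Bqˣ) : Bq) * algebraMap B Bq b = 1 := by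
      rw [← show (u : Bq) = algebraMap B Bq b from hu, Units.inv_mul]
    rw [h8, hΦ1] at h7
    exact h7.symm
  have hb2 : ∀ b ∈ q, ∃ r : ℕ, algebraMap B C b ^ r • t = 0 := by
    intro b hb
    refine ⟨r, ?_⟩
    have h7 := hΦ (b ^ r) 1 t
    rw [hΦ1, map_pow] at h7
    rw [h7]
    refine hΦ0 _ (fun d => ?_) t
    obtain ⟨y, rfl⟩ := L.mkQ_surjective d
    rw [← map_smul]
    refine (Submodule.Quotient.mk_eq_zero L).mpr (Submodule.mem_sup_right ?_)
    refine Submodule.smul_mem_smul ?_ trivial
    rw [one_mul, map_pow]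
    exact Ideal.pow_mem_pow ((IsLocalization.AtPrime.to_map_mem_maximal_iff Bq q b).mpr hb) r
  obtain ⟨Q, hQ, hQ1, hQ2, hQ3⟩ := exists_prime (R := R) (C := C) (T := T) q t ht hb1 hb2 (fun a ha => hT a ha t)
  · refine ⟨Q, hQ, hQ1, hQ2, fun hmem => ?_⟩
    let iN := LocalizedModule.mkLinearMap Q.primeCompl N
    let iT := LocalizedModule.mkLinearMap Q.primeCompl T
    let Θ : LocalizedModule Q.primeCompl N →ₗ[C] LocalizedModule Q.primeCompl T :=
      IsLocalizedModule.map Q.primeCompl iN iT θ
    have hΘ : ∀ n, Θ (iN n) = iT (θ n) := fun n => IsLocalizedModule.map_apply Q.primeCompl iN iT θ n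
    have hTQ : ∀ a ∈ maximalIdeal R, ∀ y : LocalizedModule Q.primeCompl T, a • y = 0 := by
      intro a ha y
      obtain ⟨⟨t, s⟩, rfl⟩ := IsLocalizedModule.mk'_surjective Q.primeCompl iT y
      change a • (IsLocalizedModule.mk' iT t s) = 0
      rw [← algebraMap_smul C a, ← IsLocalizedModule.mk'_smul, hT a ha, IsLocalizedModule.mk'_zero]
    have h4 : ∀ y ∈ (maximalIdeal R) • (⊤ : Submodule R (LocalizedModule Q.primeCompl N)), Θ y = 0 := by
      intro y hy
      induction hy using Submodule.smul_induction_on' with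
      | smul a ha n hn =>
        rw [← algebraMap_smul C a n, map_smul, algebraMap_smul, hTQ a ha]
      | add y _ z _ hy hz => rw [map_add, hy, hz, add_zero]
    have h5 := h4 _ hmem
    have h6 : Θ (∑ j, l j • iN (g (x j))) = iT t := by
      rw [map_sum, map_sum]
      refine Finset.sum_congr rfl fun j _ => ?_
      rw [← algebraMap_smul C (l j) (iN (g (x j))), map_smul, hΘ, algebraMap_smul, ← algebraMap_smul C (l j) (θ (g (x j))),
        map_smul, algebraMap_smul]
    rw [h6] at h5
    obtain ⟨c, hc⟩ := (IsLocalizedModule.eq_zero_iff Q.primeCompl iT).mp h5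
    exact hQ3 c c.2 hc

/-- Elements of `M` linearly independent at `q` modulo `m` are "linearly independent" over `R`. -/
theorem eq_zero_of_relation (q : Ideal B) [q.IsPrime] (g : M →ₗ[B] N) (hg : IsBaseChange C g)
    (hflat : ∀ (Q : Ideal C) [Q.IsPrime], Q.comap (algebraMap B C) = q → Q.comap (algebraMap R C) = maximalIdeal R →
      Module.Flat R (LocalizedModule Q.primeCompl N))
    {J : Type u} [Fintype J] (x : J → M)
    (hx : ∀ a : J → A, ∑ j, a j • LocalizedModule.mkLinearMap q.primeCompl M (x j) ∈
      ((maximalIdeal A).map (algebraMap A (Localization.AtPrime q))) •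
        (⊤ : Submodule (Localization.AtPrime q) (LocalizedModule q.primeCompl M)) → ∀ j, a j ∈ maximalIdeal A)
    (a : J → A) (ha : ∑ j, a j • x j = 0) (j : J) : algebraMap A R (a j) = 0 := by
  classical
  let k := ResidueField R
  let Λ := {Q : PrimeSpectrum C // Q.asIdeal.comap (algebraMap B C) = q ∧ Q.asIdeal.comap (algebraMap R C) = maximalIdeal R}
  let G : Λ → Type u := fun Q => LocalizedModule Q.1.asIdeal.primeCompl N
  have hG : ∀ Q : Λ, Module.Flat R (G Q) := fun Q => hflat Q.1.asIdeal Q.2.1 Q.2.2
  let v : ∀ Q : Λ, J → G Q := fun Q j => LocalizedModule.mkLinearMap Q.1.asIdeal.primeCompl N (g (x j))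
  let K : Λ → Submodule k (J → k) := fun Q =>
    LinearMap.ker (Fintype.linearCombination k (fun j => (1 : k) ⊗ₜ[R] v Q j))
  have hK : ∀ (Q : Λ) (l : J → R), (fun j => residue R (l j)) ∈ K Q ↔
      ∑ j, l j • v Q j ∈ (maximalIdeal R) • (⊤ : Submodule R (G Q)) := by
    intro Q l
    have h1 : (TensorProduct.mk R k (G Q) 1) (∑ j, l j • v Q j) = ∑ j, residue R (l j) • ((1 : k) ⊗ₜ[R] v Q j) := by
      rw [map_sum]
      refine Finset.sum_congr rfl fun j _ => ?_
      rw [map_smul]
      exact (algebraMap_smul k (l j) ((1 : k) ⊗ₜ[R] v Q j)).symm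
    rw [LinearMap.mem_ker, Fintype.linearCombination_apply, ← h1, ← LinearMap.mem_ker]
    have h2 : LinearMap.ker (TensorProduct.mk R k (G Q) 1) = maximalIdeal R • (⊤ : Submodule R (G Q)) :=
      LinearMap.ker_tensorProductMk _
    rw [h2]
  have hbot : ∀ l : J → k, (∀ Q, l ∈ K Q) → l = 0 := by
    intro l hl
    choose l' hl' using fun j => IsLocalRing.residue_surjective (l j)
    have hl'' : l = fun j => residue R (l' j) := funext fun j => (hl' j).symm
    by_contra hne
    obtain ⟨j₀, hj₀⟩ := Function.ne_iff.mp hne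
    obtain ⟨Q, hQ, hQ1, hQ2, hQ3⟩ := exists_detect q g hg x hx l' ⟨j₀, fun hmem => hj₀ (by
      rw [← hl' j₀, (IsLocalRing.residue_eq_zero_iff _).mpr hmem]
      rfl)⟩
    refine hQ3 ((hK ⟨⟨Q, hQ⟩, hQ1, hQ2⟩ l').mp ?_)
    rw [← hl'']
    exact hl _
  -- finitely many primes suffice
  obtain ⟨S, hS⟩ : ∃ S : Finset Λ, ∀ Q, S.inf K ≤ K Q := by
    obtain ⟨W, ⟨S, rfl⟩, hmin⟩ := IsArtinian.set_has_minimal (Set.range fun S : Finset Λ => S.inf K) ⟨_, ∅, rfl⟩
    refine ⟨S, fun Q => ?_⟩
    by_contra hne
    refine hmin _ ⟨insert Q S, rfl⟩ ?_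
    change (insert Q S).inf K < S.inf K
    rw [Finset.inf_insert]
    exact lt_of_le_of_ne inf_le_right fun h => hne (h ▸ inf_le_left)
  let GS := Π₀ Q : S, G Q
  let vS : J → GS := fun j => DFinsupp.equivFunOnFintype.symm fun Q : S => v Q j
  have hlin : LinearIndependent R vS := by
    apply Module.IsLocalRing.linearIndependent_of_flat
    rw [Fintype.linearIndependent_iff]
    intro l hl j
    have h1 : l = 0 := by
      refine hbot l fun Q => hS Q ?_
      rw [Submodule.mem_finsetInf]
      intro Q hQ
      rw [LinearMap.mem_ker, Fintype.linearCombination_apply]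
      have h2 := congrArg ((AlgebraTensorModule.lTensor k k (DFinsupp.lapply (R := R) (M := fun Q : S => G Q) ⟨Q, hQ⟩))) hl
      rw [map_sum, map_zero] at h2
      rw [← h2]
      refine Finset.sum_congr rfl fun j _ => ?_
      rw [map_smul]
      rfl
    rw [h1]
    rfl
  rw [Fintype.linearIndependent_iff] at hlin
  refine hlin (fun j => algebraMap A R (a j)) ?_ j
  apply DFinsupp.ext
  intro Q
  rw [DFinsupp.finsetSum_apply]
  change ∑ j, algebraMap A R (a j) • v Q j = 0
  have h3 : ∀ j, algebraMap A R (a j) • v Q j = LocalizedModule.mkLinearMap Q.1.1.asIdeal.primeCompl N (g (a j • x j)) := by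
    intro j
    rw [← algebraMap_smul B (a j) (x j), map_smul, ← algebraMap_smul C (algebraMap A B (a j)) (g (x j)), map_smul,
      ← IsScalarTower.algebraMap_apply A B C, IsScalarTower.algebraMap_apply A R C]
    exact (algebraMap_smul C (algebraMap A R (a j)) (v Q j)).symm
  rw [Finset.sum_congr rfl fun j _ => h3 j, ← map_sum, ← map_sum, ha, map_zero, map_zero]

end

theorem isNilpotent_maximalIdeal (A : Type*) [CommRing A] [IsArtinianRing A] [IsLocalRing A] :
    IsNilpotent (maximalIdeal A) := by
  rw [← IsLocalRing.jacobson_eq_maximalIdeal ⊥ bot_ne_top]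
  exact IsArtinianRing.isNilpotent_jacobson_bot

theorem mem_smul_top_of_map {A B P : Type*} [CommRing A] [CommRing B] [Algebra A B] [AddCommGroup P] [Module B P]
    [Module A P] [IsScalarTower A B P] (m : Ideal A) (y : P) (hy : y ∈ (m.map (algebraMap A B)) • (⊤ : Submodule B P)) :
    y ∈ m • (⊤ : Submodule A P) := by
  induction hy using Submodule.smul_induction_on' with
  | smul r hr n _ =>
    induction hr using Submodule.span_induction generalizing n with
    | mem r h =>
      obtain ⟨a, ha, rfl⟩ := h
      rw [algebraMap_smul]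
      exact Submodule.smul_mem_smul ha trivial
    | zero => rw [zero_smul]; exact Submodule.zero_mem _
    | add r s _ _ h1 h2 => rw [add_smul]; exact Submodule.add_mem _ (h1 n trivial) (h2 n trivial)
    | smul b r _ h =>
      rw [smul_eq_mul, mul_comm, mul_smul]
      exact h (b • n) trivial
  | add y _ z _ hy hz => exact Submodule.add_mem _ hy hz

/-- **Descent of flatness at a prime along a jointly injective family of local algebras over an Artinian local ring.** -/
theorem flatAt_of_family {A B M : Type u} [CommRing A] [IsArtinianRing A] [IsLocalRing A] [CommRing B]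
    [IsNoetherianRing B] [Algebra A B] [AddCommGroup M] [Module B M] [Module A M] [IsScalarTower A B M] [Module.Finite B M]
    {ι : Type*} (R C N : ι → Type u)
    [∀ i, CommRing (R i)] [∀ i, IsLocalRing (R i)] [∀ i, CommRing (C i)]
    [∀ i, Algebra A (R i)] [∀ i, Algebra B (C i)] [∀ i, Algebra (R i) (C i)] [∀ i, Algebra A (C i)]
    [∀ i, IsScalarTower A B (C i)] [∀ i, IsScalarTower A (R i) (C i)] [∀ i, Algebra.IsPushout A (R i) B (C i)]
    [∀ i, AddCommGroup (N i)] [∀ i, Module (C i) (N i)] [∀ i, Module B (N i)] [∀ i, IsScalarTower B (C i) (N i)]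
    [∀ i, Module (R i) (N i)] [∀ i, IsScalarTower (R i) (C i) (N i)]
    (hinj : ∀ a : A, (∀ i, algebraMap A (R i) a = 0) → a = 0)
    (q : Ideal B) [q.IsPrime] (g : ∀ i, M →ₗ[B] N i) (hg : ∀ i, IsBaseChange (C i) (g i))
    (hflat : ∀ i (Q : Ideal (C i)) [Q.IsPrime], Q.comap (algebraMap B (C i)) = q →
      Q.comap (algebraMap (R i) (C i)) = maximalIdeal (R i) → Module.Flat (R i) (LocalizedModule Q.primeCompl (N i))) :
    Module.Flat A (LocalizedModule q.primeCompl M) := by
  classical
  let P := LocalizedModule q.primeCompl M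
  let Bq := Localization.AtPrime q
  let mk : M →ₗ[B] P := LocalizedModule.mkLinearMap q.primeCompl M
  let m := maximalIdeal A
  let _ : Field (A ⧸ m) := Ideal.Quotient.field _
  let b := Module.Free.chooseBasis (A ⧸ m) ((A ⧸ m) ⊗[A] P)
  choose p hp using fun κ => Groth.Agent.Ega43.NilpotentFree.exists_lift m (b κ)
  have hsurj := Groth.Agent.Ega43.NilpotentFree.linearCombination_surjective m (isNilpotent_maximalIdeal A) b p hp
  have hlin : LinearIndependent A p := by
    rw [linearIndependent_iff']
    intro s a hs j hj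
    -- common denominators
    obtain ⟨d, hd⟩ := IsLocalizedModule.exist_integer_multiples q.primeCompl mk s p
    choose! y hy using hd
    have h1 : mk (∑ j ∈ s, a j • y j) = 0 := by
      have h2 : mk (∑ j ∈ s, a j • y j) = d • ∑ j ∈ s, a j • p j := by
        rw [map_sum, Finset.smul_sum]
        refine Finset.sum_congr rfl fun j hj => ?_
        rw [← algebraMap_smul B (a j) (y j), map_smul, hy j hj, smul_comm d (a j) (p j), algebraMap_smul]
        rfl
      rw [h2, hs, smul_zero]
    obtain ⟨t, ht⟩ := (IsLocalizedModule.eq_zero_iff q.primeCompl mk).mp h1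
    let x : s → M := fun j => t • y j
    have hx1 : ∀ j : s, mk (x j) = (t * d : q.primeCompl) • p j := by
      intro j
      change mk ((t : B) • y j) = _
      rw [map_smul, hy j j.2, mul_smul]
      rfl
    refine hinj _ fun i => ?_
    refine eq_zero_of_relation (R := R i) (C := C i) (N := N i) q (g i) (hg i) (hflat i) x ?_ (fun j => a j) ?_ ⟨j, hj⟩
    · intro c hc j
      -- divide by the unit `t * d`
      have h3 : ∑ j : s, c j • p j ∈ (m.map (algebraMap A Bq)) • (⊤ : Submodule Bq P) := by
        have h4 : ∑ j : s, c j • mk (x j) = (t * d : q.primeCompl) • ∑ j : s, c j • p j := by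
          rw [Finset.smul_sum]
          refine Finset.sum_congr rfl fun j _ => ?_
          rw [hx1, smul_comm]
        obtain ⟨u, hu⟩ := IsLocalization.map_units Bq (t * d : q.primeCompl)
        have h5 : ∑ j : s, c j • mk (x j) = (u : Bq) • ∑ j : s, c j • p j := by
          rw [h4, hu]
          exact (algebraMap_smul Bq ((t * d : q.primeCompl) : B) _).symm
        have h6 : ∑ j : s, c j • p j = ((u⁻¹ : Bqˣ) : Bq) • ∑ j : s, c j • mk (x j) := by
          rw [h5, smul_smul, Units.inv_mul, one_smul]
        rw [h6]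
        exact Submodule.smul_mem _ _ hc
      have h7 := mem_smul_top_of_map m _ h3
      have h8 := (Groth.Agent.Ega43.NilpotentFree.one_tmul_eq_zero_iff m (∑ j : s, c j • p j)).mpr h7
      rw [TensorProduct.tmul_sum] at h8
      have h9 : ∑ j : s, Ideal.Quotient.mk m (c j) • b (j : _) = 0 := by
        rw [← h8]
        refine Finset.sum_congr rfl fun j _ => ?_
        rw [← hp, TensorProduct.tmul_smul]
        exact algebraMap_smul (A ⧸ m) (c j) ((1 : A ⧸ m) ⊗ₜ[A] p j)
      have h10 : LinearIndependent (A ⧸ m) (fun j : s => b (j : _)) := b.linearIndependent.comp _ Subtype.val_injective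
      exact Ideal.Quotient.eq_zero_iff_mem.mp (Fintype.linearIndependent_iff.mp h10 _ h9 j)
    · have h11 : ∑ j : s, a j • x j = (t : B) • ∑ j ∈ s, a j • y j := by
        rw [Finset.smul_sum, ← Finset.sum_coe_sort s]
        refine Finset.sum_congr rfl fun j _ => ?_
        exact smul_comm _ _ _
      rw [h11]
      exact ht
  have hb : Module.Free A P := Module.Free.of_basis (Module.Basis.mk hlin (by
    rw [← Finsupp.range_linearCombination, LinearMap.range_eq_top.mpr hsurj]))
  infer_instance

end K120.ArtinFamily
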