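import Groth.Agent.EGA43.K120.FlatPtAlg
import Groth.Agent.EGA43.K120.ArtinFamily
import Groth.Agent.Ega3B.DevQC

/-!
# Descent of flatness over an Artinian local ring along a jointly injective family, for schemes
-/

set_option autoImplicit false
universe u
open CategoryTheory AlgebraicGeometry Limits TensorProduct

namespace K120.ArtinFamilySch

open Groth.Agent K120.FlatPt K120.FlatPtAlg

theorem flatAt_of_family {A B M : Type u} [CommRing A] [IsArtinianRing A] [IsLocalRing A] [CommRing B]
    [IsNoetherianRing B] [Algebra A B] [AddCommGroup M] [Module B M] [Module A M] [IsScalarTower A B M] [Module.Finite B M]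
    {ι : Type*} (R : ι → Type u) [∀ i, CommRing (R i)] [∀ i, IsLocalRing (R i)] [∀ i, Algebra A (R i)]
    (hinj : ∀ a : A, (∀ i, algebraMap A (R i) a = 0) → a = 0) (q : Ideal B) [q.IsPrime]
    (hflat : ∀ i, FlatPt (Spec.map (CommRingCat.ofHom (algebraMap A B)))
      (tilde (R := CommRingCat.of B) (ModuleCat.of B M)) (Spec.map (CommRingCat.ofHom (algebraMap A (R i)))) (pt q)
      (pt (IsLocalRing.maximalIdeal (R i)))) : FlatCA.FlatAt A q M := by
  let i4 : ∀ i, Algebra B (R i ⊗[A] B) := fun i => Algebra.TensorProduct.rightAlgebra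
  have t2 : ∀ i, IsScalarTower A B (R i ⊗[A] B) := fun i => Algebra.TensorProduct.right_isScalarTower
  refine K120.ArtinFamily.flatAt_of_family (R := R) (C := fun i => R i ⊗[A] B)
    (N := fun i => (R i ⊗[A] B) ⊗[B] M) hinj q (fun i => TensorProduct.mk _ _ _ 1)
    (fun i => TensorProduct.isBaseChange _ _ _) ?_
  intro i Q hQ h1 h2
  exact (flatPt_tilde_iff (C := R i ⊗[A] B) (TensorProduct.mk B (R i ⊗[A] B) M 1)
    (TensorProduct.isBaseChange _ _ _) q _).mp (hflat i) Q h1 h2

theorem isFlatOverAt_of_family {X Y : Scheme.{u}} {f : X ⟶ Y} {F : X.Modules}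
    {A B M : Type u} [CommRing A] [IsArtinianRing A] [IsLocalRing A] [CommRing B]
    [IsNoetherianRing B] [Algebra A B] [AddCommGroup M] [Module B M] [Module A M] [IsScalarTower A B M] [Module.Finite B M]
    (jU : Spec (CommRingCat.of B) ⟶ X) [IsOpenImmersion jU] (jV : Spec (CommRingCat.of A) ⟶ Y)
    [IsOpenImmersion jV] (w : jU ≫ f = Spec.map (CommRingCat.ofHom (algebraMap A B)) ≫ jV)
    (α : (Scheme.Modules.pullback jU).obj F ≅ tilde (R := CommRingCat.of B) (ModuleCat.of B M))
    {ι : Type*} (R : ι → Type u) [∀ i, CommRing (R i)] [∀ i, IsLocalRing (R i)] [∀ i, Algebra A (R i)]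
    (hinj : ∀ a : A, (∀ i, algebraMap A (R i) a = 0) → a = 0) (q : Ideal B) [q.IsPrime]
    (hflat : ∀ i, FlatPt f F (Spec.map (CommRingCat.ofHom (algebraMap A (R i))) ≫ jV) (jU (pt q))
      (pt (IsLocalRing.maximalIdeal (R i)))) : FlatMod.IsFlatOverAt f F (jU (pt q)) := by
  rw [isFlatOverAt_iff_chart jU jV w α q]
  refine flatAt_of_family R hinj q fun i => ?_
  have h := hflat i
  rwa [flatPt_source jU, w, flatPt_target, flatPt_iso α] at h

end K120.ArtinFamilySch
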