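import Groth.Agent.Fdesc.FlatBC
import Groth.Agent.Models2.FlatIso
import Groth.Agent.EGA43.K120.FlatDict
import Groth.Agent.VarietyB.FlatH0

/-!
# Flatness after base change, pointwise

For `f : X ⟶ Y`, `F` on `X`, `t : T ⟶ Y`, `x : X` and `s : T`: `FlatPt f F t x s` says that the pullback of `F` to
`X ×_Y T` is flat over `T` at all the points over `(x, s)`.

* `flatPt_iff_of_isPullback`: any pullback square can be used.
* `FlatPt.comp`, `FlatPt.of_comp`: base change, and descent along a flat morphism.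
* `flatPt_iff_flat`: on affine opens, `FlatPt` for all `x ∈ U`, `s ∈ V'` iff `Γ(T, V') ⊗ Γ(F, U)` is flat.
* `flatPt_of_algebra`: if `R ⊗ Γ(F, U)` is flat over `R` and `t` factors through `Spec R`.
-/

set_option autoImplicit false
universe u
open CategoryTheory AlgebraicGeometry Limits TensorProduct

namespace K120.FlatPt

open Groth.Agent

section

variable {X Y T T' : Scheme.{u}} (f : X ⟶ Y) (F : X.Modules) (t : T ⟶ Y)

/-- the pullback of `F` to `X ×_Y T` is flat over `T` at all points above `(x, s)` -/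
def FlatPt (x : X) (s : T) : Prop :=
  ∀ z : (pullback f t : Scheme.{u}), pullback.fst f t z = x → pullback.snd f t z = s →
    FlatMod.IsFlatOverAt (pullback.snd f t) ((Scheme.Modules.pullback (pullback.fst f t)).obj F) z

variable {f F t}

theorem isFlatOverAt_pullback_comp {P Q : Scheme.{u}} {p : P ⟶ X} {q : P ⟶ T} {a : Q ⟶ P} {b : Q ⟶ T'} {c : T' ⟶ T}
    (H : IsPullback a b q c) {p' : Q ⟶ X} (hp : a ≫ p = p') (z : Q)
    (h : FlatMod.IsFlatOverAt q ((Scheme.Modules.pullback p).obj F) (a z)) :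
    FlatMod.IsFlatOverAt b ((Scheme.Modules.pullback p').obj F) z := by
  subst hp
  exact Models2.FlatIso.isFlatOverAt_of_iso b ((Scheme.Modules.pullbackComp a p).app F) z
    (Fdesc.FlatBC.isFlatOverAt_pullback H _ z h)

theorem isFlatOverAt_of_pullback_comp {P Q : Scheme.{u}} {p : P ⟶ X} {q : P ⟶ T} {a : Q ⟶ P} {b : Q ⟶ T'} {c : T' ⟶ T}
    (H : IsPullback a b q c) [Flat c] {p' : Q ⟶ X} (hp : a ≫ p = p') (z : Q)
    (h : FlatMod.IsFlatOverAt b ((Scheme.Modules.pullback p').obj F) z) :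
    FlatMod.IsFlatOverAt q ((Scheme.Modules.pullback p).obj F) (a z) := by
  subst hp
  exact Fdesc.FlatBC.isFlatOverAt_of_pullback H _ z
    (Models2.FlatIso.isFlatOverAt_of_iso b ((Scheme.Modules.pullbackComp a p).app F).symm z h)

theorem flatPt_iff_of_isPullback {P : Scheme.{u}} {p : P ⟶ X} {q : P ⟶ T} (H : IsPullback p q f t) (x : X) (s : T) :
    FlatPt f F t x s ↔ ∀ z : P, p z = x → q z = s →
      FlatMod.IsFlatOverAt q ((Scheme.Modules.pullback p).obj F) z := by
  have e1 : IsPullback H.isoPullback.hom q (pullback.snd f t) (𝟙 T) :=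
    IsPullback.of_horiz_isIso ⟨by simp⟩
  have e2 : IsPullback H.isoPullback.inv (pullback.snd f t) q (𝟙 T) :=
    IsPullback.of_horiz_isIso ⟨by simp⟩
  constructor
  · intro h z hz hz'
    refine isFlatOverAt_pullback_comp (p := pullback.fst f t) e1 (by simp) z (h _ ?_ ?_)
    · rw [← Scheme.Hom.comp_apply, H.isoPullback_hom_fst, hz]
    · rw [← Scheme.Hom.comp_apply, H.isoPullback_hom_snd, hz']
  · intro h z hz hz'
    refine isFlatOverAt_pullback_comp (p := p) e2 (by simp) z (h _ ?_ ?_)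
    · rw [← Scheme.Hom.comp_apply, H.isoPullback_inv_fst, hz]
    · rw [← Scheme.Hom.comp_apply, H.isoPullback_inv_snd, hz']

theorem flatPt_comp {x : X} {r : T' ⟶ T} {t' : T' ⟶ Y} (e : r ≫ t = t') {s' : T'}
    (h : FlatPt f F t x (r s')) : FlatPt f F t' x s' := by
  subst e
  have H : IsPullback (pullback.lift (pullback.fst f (r ≫ t)) (pullback.snd f (r ≫ t) ≫ r)
      (by rw [pullback.condition, Category.assoc])) (pullback.snd f (r ≫ t)) (pullback.snd f t) r :=
    IsPullback.of_right (h₁₂ := pullback.fst f t) (h₂₂ := t) (v₁₃ := f)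
      (by rw [pullback.lift_fst]; exact (IsPullback.of_hasPullback f (r ≫ t)))
      (pullback.lift_snd _ _ _) (IsPullback.of_hasPullback f t)
  intro z hz hz'
  refine isFlatOverAt_pullback_comp (p := pullback.fst f t) H (pullback.lift_fst _ _ _) z (h _ ?_ ?_)
  · rw [← Scheme.Hom.comp_apply, pullback.lift_fst, hz]
  · rw [← Scheme.Hom.comp_apply, pullback.lift_snd, Scheme.Hom.comp_apply, hz']

theorem flatPt_of_comp {x : X} {r : T' ⟶ T} [Flat r] {t' : T' ⟶ Y} (e : r ≫ t = t') {s' : T'}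
    (h : FlatPt f F t' x s') : FlatPt f F t x (r s') := by
  subst e
  have H : IsPullback (pullback.lift (pullback.fst f (r ≫ t)) (pullback.snd f (r ≫ t) ≫ r)
      (by rw [pullback.condition, Category.assoc])) (pullback.snd f (r ≫ t)) (pullback.snd f t) r :=
    IsPullback.of_right (h₁₂ := pullback.fst f t) (h₂₂ := t) (v₁₃ := f)
      (by rw [pullback.lift_fst]; exact (IsPullback.of_hasPullback f (r ≫ t)))
      (pullback.lift_snd _ _ _) (IsPullback.of_hasPullback f t)
  intro z hz hz'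
  obtain ⟨w, hw, hw'⟩ := Scheme.exists_preimage_of_isPullback H z s' hz'
  have h1 := isFlatOverAt_of_pullback_comp (F := F) (p := pullback.fst f t) H (pullback.lift_fst _ _ _) w (h w ?_ hw')
  · rwa [hw] at h1
  · rw [← hz, ← hw, ← Scheme.Hom.comp_apply, pullback.lift_fst]

theorem flatPt_congr {x : X} {t' : T ⟶ Y} (e : t = t') {s s' : T} (es : s = s') :
    FlatPt f F t x s ↔ FlatPt f F t' x s' := by
  subst e es
  rfl

theorem isFlatOver_iff_flatPt {P : Scheme.{u}} {p : P ⟶ X} {q : P ⟶ T} (H : IsPullback p q f t) :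
    FlatMod.IsFlatOver q ((Scheme.Modules.pullback p).obj F) ↔ ∀ x s, FlatPt f F t x s := by
  constructor
  · intro h x s
    rw [flatPt_iff_of_isPullback H]
    intro z _ _
    exact h z
  · intro h z
    exact (flatPt_iff_of_isPullback H _ _).mp (h (p z) (q z)) z rfl rfl

/-- dictionary on affine opens -/
theorem flatPt_iff_flat (hF : Coh.IsQCoh F) {U : X.Opens} {V : Y.Opens} {V' : T.Opens} (hU : IsAffineOpen U)
    (hV : IsAffineOpen V) (hV' : IsAffineOpen V') (e : U ≤ f ⁻¹ᵁ V) (e' : V' ≤ t ⁻¹ᵁ V) :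
    letI := VarietyB.FlatH0.algOver t e'
    letI := VarietyB.FlatH0.modOver f F e
    (∀ x ∈ U, ∀ s ∈ V', FlatPt f F t x s) ↔ Module.Flat Γ(T, V') (Γ(T, V') ⊗[Γ(Y, V)] Γ(F, U)) := by
  let i1 := VarietyB.FlatH0.algOver t e'
  let i2 := VarietyB.FlatH0.modOver f F e
  have H := IsPullback.of_hasPullback f t
  let W : (pullback f t).Opens := pullback.fst f t ⁻¹ᵁ U ⊓ pullback.snd f t ⁻¹ᵁ V'
  have hW : IsAffineOpen W := VarietyB.FlatH0.isAffineOpen_pull H e' e rfl hV hV' hU
  have eW : W ≤ pullback.snd f t ⁻¹ᵁ V' := inf_le_right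
  have hq : Coh.IsQCoh ((Scheme.Modules.pullback (pullback.fst f t)).obj F) :=
    VarietyB.PullSec.isQCoh_pullback _ _ hF
  have h1 := K120.FlatDict.flat_sections_iff (pullback.snd f t)
    ((Scheme.Modules.pullback (pullback.fst f t)).obj F) hq hW hV' eW
  have h2 := VarietyB.FlatH0.isBC_affine H F hF (US := V) (UT := V') e' (UX := U) e (UY := W) rfl inf_le_left
    inf_le_right hV hV' hU
  let i3 := VarietyB.FlatH0.modOver (pullback.snd f t) ((Scheme.Modules.pullback (pullback.fst f t)).obj F) eW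
  let e1 : (Γ(T, V') ⊗[Γ(Y, V)] Γ(F, U)) ≃ₗ[Γ(T, V')]
      Γ((Scheme.Modules.pullback (pullback.fst f t)).obj F, W) := LinearEquiv.ofBijective _ h2
  have h3 : (∀ x ∈ U, ∀ s ∈ V', FlatPt f F t x s) ↔ ∀ z ∈ W, FlatMod.IsFlatOverAt (pullback.snd f t)
      ((Scheme.Modules.pullback (pullback.fst f t)).obj F) z :=
    ⟨fun h z hz => h _ hz.1 _ hz.2 z rfl rfl, fun h x hx s hs z hz hz' => h z ⟨by
      subst hz
      exact hx, by
      subst hz'
      exact hs⟩⟩
  rw [h3, h1]
  exact ⟨fun _ => Module.Flat.of_linearEquiv e1, fun _ => Module.Flat.of_linearEquiv e1.symm⟩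

/-- flatness after base change to `Spec R` gives flatness after base change to anything over `Spec R` -/
theorem flatPt_of_algebra (hF : Coh.IsQCoh F) {U : X.Opens} {V : Y.Opens} (hU : IsAffineOpen U)
    (hV : IsAffineOpen V) (e : U ≤ f ⁻¹ᵁ V) (R : Type u) [CommRing R] [Algebra Γ(Y, V) R] (a : T ⟶ Spec (CommRingCat.of R))
    (ha : a ≫ Spec.map (CommRingCat.ofHom (algebraMap Γ(Y, V) R)) ≫ hV.fromSpec = t)
    (h : letI := VarietyB.FlatH0.modOver f F e
      Module.Flat R (R ⊗[Γ(Y, V)] Γ(F, U))) {x : X} (hx : x ∈ U) (s : T) : FlatPt f F t x s := by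
  refine flatPt_comp ha ?_
  let b : Spec (CommRingCat.of R) ⟶ Y := Spec.map (CommRingCat.ofHom (algebraMap Γ(Y, V) R)) ≫ hV.fromSpec
  have eb : (⊤ : (Spec (CommRingCat.of R)).Opens) ≤ b ⁻¹ᵁ V := by
    rintro z -
    change b z ∈ V
    rw [← SetLike.mem_coe, ← hV.range_fromSpec]
    exact ⟨_, rfl⟩
  refine (flatPt_iff_flat (t := b) hF hU hV (isAffineOpen_top _) e eb).mpr ?_ x hx (a s) trivial
  let i1 := VarietyB.FlatH0.algOver b eb
  let i2 := VarietyB.FlatH0.modOver f F e
  let γ : R →+* Γ(Spec (CommRingCat.of R), ⊤) := (Scheme.ΓSpecIso (CommRingCat.of R)).inv.hom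
  let i3 : Algebra R Γ(Spec (CommRingCat.of R), ⊤) := γ.toAlgebra
  have h4 : Spec.map (CommRingCat.ofHom (γ.comp (algebraMap Γ(Y, V) R))) ≫ hV.fromSpec =
      Spec.map (b.appLE V ⊤ eb) ≫ hV.fromSpec := by
    rw [IsAffineOpen.SpecMap_appLE_fromSpec b hV (isAffineOpen_top _) eb]
    rw [CommRingCat.ofHom_comp, Spec.map_comp, Category.assoc]
    rw [IsAffineOpen.fromSpec_top, Scheme.isoSpec_Spec_inv]
    rfl
  have h5 : b.appLE V ⊤ eb = CommRingCat.ofHom (γ.comp (algebraMap Γ(Y, V) R)) := by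
    apply Spec.map_injective
    rw [← cancel_mono hV.fromSpec, h4]
  have h6 : IsScalarTower Γ(Y, V) R Γ(Spec (CommRingCat.of R), ⊤) := IsScalarTower.of_algebraMap_eq fun r => by
    change (b.appLE V ⊤ eb).hom r = _
    rw [h5]
    rfl
  exact Module.Flat.of_linearEquiv (AlgebraTensorModule.cancelBaseChange Γ(Y, V) R Γ(Spec (CommRingCat.of R), ⊤)
    Γ(Spec (CommRingCat.of R), ⊤) Γ(F, U)).symm

end

end K120.FlatPt
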