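import Groth.Prelude.Def_FlatCA
import Groth.Agent.EGA43.K120.FlatPt
import Groth.Agent.S2394
import Groth.Agent.Ega1.TildePullback
import Groth.Agent.Models2.LocRes
import Groth.Agent.Ega3B.FlatRestrict

/-!
# `FlatPt` in affine charts: flatness at primes of the tensor product

* `isFlatOverAt_tilde_iff`
* `flatPt_iff_chart`: charts `Spec B → X`, `Spec A → Y`, `F` given by the `B`-module `M`, and `R` an `A`-algebra
  with pushout `C` of `R` and `B` over `A` and base change `N` of `M` to `C`.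
-/

set_option autoImplicit false
universe u
open CategoryTheory AlgebraicGeometry Limits TensorProduct

namespace K120.FlatPtAlg

open Groth.Agent K120.FlatPt

/-- the point of `Spec B` given by a prime ideal -/
def pt {B : Type u} [CommRing B] (q : Ideal B) [hq : q.IsPrime] : Spec (CommRingCat.of B) :=
  (⟨q, hq⟩ : PrimeSpectrum B)

theorem exists_eq_pt {B : Type u} [CommRing B] (x : Spec (CommRingCat.of B)) : ∃ (q : Ideal B) (_ : q.IsPrime), x = pt q :=
  ⟨x.asIdeal, x.2, rfl⟩

theorem map_pt {B C : Type u} [CommRing B] [CommRing C] (φ : B →+* C) (Q : Ideal C) [Q.IsPrime] :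
    Spec.map (CommRingCat.ofHom φ) (pt Q) = pt (Q.comap φ) := rfl

theorem pt_eq_iff {B : Type u} [CommRing B] (q q' : Ideal B) [q.IsPrime] [q'.IsPrime] : pt q = pt q' ↔ q = q' :=
  ⟨fun h => congrArg (fun x : Spec (CommRingCat.of B) => x.asIdeal) h, fun h => by subst h; rfl⟩

theorem isFlatOverAt_tilde_iff {A B : Type u} [CommRing A] [CommRing B] [Algebra A B] (M : Type u) [AddCommGroup M]
    [Module B M] [Module A M] [IsScalarTower A B M] (q : Ideal B) [q.IsPrime] :
    FlatMod.IsFlatOverAt (Spec.map (CommRingCat.ofHom (algebraMap A B))) (tilde (R := CommRingCat.of B) (ModuleCat.of B M)) (pt q) ↔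
      FlatCA.FlatAt A q M := by
  rw [S2394.flatAt_iff]
  let MM : ModuleCat.{u} (CommRingCat.of B) := ModuleCat.of B M
  let i1 := S2394.modStalk (CommRingCat.of B) MM (pt q)
  let i2 : Module A ((tilde MM).presheaf.stalk (pt q)) :=
    Module.compHom _ ((S2394.tos (CommRingCat.of B) (pt q)).comp (algebraMap A B))
  have : IsScalarTower A B ((tilde MM).presheaf.stalk (pt q)) := .of_algebraMap_smul fun _ _ => rfl
  obtain ⟨g, hg⟩ := S2394.exists_isLocalizedModule_stalk (CommRingCat.of B) MM (pt q)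
  let g' : M →ₗ[B] ((tilde MM).presheaf.stalk (pt q)) := g
  have hg' : IsLocalizedModule q.primeCompl g' := hg
  let e : LocalizedModule q.primeCompl M ≃ₗ[B] ((tilde MM).presheaf.stalk (pt q)) :=
    IsLocalizedModule.iso q.primeCompl g'
  have h1 : Module.Flat A ((tilde MM).presheaf.stalk (pt q)) ↔ Module.Flat A (LocalizedModule q.primeCompl M) :=
    ⟨fun h => Module.Flat.of_linearEquiv (e.restrictScalars A),
      fun h => Module.Flat.of_linearEquiv (e.restrictScalars A).symm⟩
  exact h1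

section

variable {X Y : Scheme.{u}} {f : X ⟶ Y} {F : X.Modules}

/-- Restriction of the source to an open chart. -/
theorem flatPt_source {T U : Scheme.{u}} {t : T ⟶ Y} (j : U ⟶ X) [IsOpenImmersion j] (x : U) (s : T) :
    FlatPt f F t (j x) s ↔ FlatPt (j ≫ f) ((Scheme.Modules.pullback j).obj F) t x s := by
  let c : pullback (j ≫ f) t ⟶ pullback f t :=
    pullback.lift (pullback.fst (j ≫ f) t ≫ j) (pullback.snd (j ≫ f) t)
      (by rw [Category.assoc, pullback.condition])
  have hc1 : c ≫ pullback.fst f t = pullback.fst (j ≫ f) t ≫ j := pullback.lift_fst _ _ _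
  have hc2 : c ≫ pullback.snd f t = pullback.snd (j ≫ f) t := pullback.lift_snd _ _ _
  have H : IsPullback c (pullback.fst (j ≫ f) t) (pullback.fst f t) j := by
    refine IsPullback.of_right (h₁₂ := pullback.snd f t) (h₂₂ := f) (v₁₃ := t) ?_ hc1
      (IsPullback.of_hasPullback f t).flip
    rw [hc2]
    exact (IsPullback.of_hasPullback (j ≫ f) t).flip
  have hco : IsOpenImmersion c := MorphismProperty.of_isPullback H.flip inferInstance
  -- the two modules on `pullback (j ≫ f) t`
  have key : ∀ z, FlatMod.IsFlatOverAt (pullback.snd (j ≫ f) t)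
      ((Scheme.Modules.pullback (pullback.fst (j ≫ f) t)).obj ((Scheme.Modules.pullback j).obj F)) z ↔
      FlatMod.IsFlatOverAt (pullback.snd f t) ((Scheme.Modules.pullback (pullback.fst f t)).obj F) (c z) := by
    intro z
    let e : ((Scheme.Modules.pullback (pullback.fst f t)).obj F).restrict c ≅
        (Scheme.Modules.pullback (pullback.fst (j ≫ f) t)).obj ((Scheme.Modules.pullback j).obj F) :=
      (Scheme.Modules.restrictFunctorIsoPullback c).app _ ≪≫
        (Scheme.Modules.pullbackComp c (pullback.fst f t)).app F ≪≫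
        (Scheme.Modules.pullbackCongr hc1).app F ≪≫
        ((Scheme.Modules.pullbackComp (pullback.fst (j ≫ f) t) j).app F).symm
    rw [← Ega3B.FlatRestrict.isFlatOverAt_restrict_iff_comp, hc2]
    exact ⟨Models2.FlatIso.isFlatOverAt_of_iso _ e.symm z, Models2.FlatIso.isFlatOverAt_of_iso _ e z⟩
  constructor
  · intro h z hz hz'
    refine (key z).mpr (h _ ?_ ?_)
    · rw [← Scheme.Hom.comp_apply, hc1, Scheme.Hom.comp_apply, hz]
    · rw [← Scheme.Hom.comp_apply, hc2, hz']
  · intro h z hz hz'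
    obtain ⟨w, rfl, hw'⟩ := Scheme.exists_preimage_of_isPullback H z x hz
    refine (key w).mp (h _ hw' ?_)
    rw [← hz', ← Scheme.Hom.comp_apply, hc2]

/-- Restriction of the base to an open chart (more generally along a monomorphism). -/
theorem flatPt_target {T Y₁ : Scheme.{u}} {f₁ : X ⟶ Y₁} (t₁ : T ⟶ Y₁) (i : Y₁ ⟶ Y) [Mono i] (x : X) (s : T) :
    FlatPt (f₁ ≫ i) F (t₁ ≫ i) x s ↔ FlatPt f₁ F t₁ x s := by
  have H : IsPullback (pullback.fst f₁ t₁) (pullback.snd f₁ t₁) (f₁ ≫ i) (t₁ ≫ i) :=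
    ⟨⟨by rw [← Category.assoc, ← Category.assoc, pullback.condition]⟩,
      ⟨PullbackCone.isLimitOfCompMono f₁ t₁ i _ (limit.isLimit (cospan f₁ t₁))⟩⟩
  rw [flatPt_iff_of_isPullback H]
  rfl

theorem flatPt_iso {F' : X.Modules} (e : F ≅ F') {T : Scheme.{u}} {t : T ⟶ Y} {x : X} {s : T} :
    FlatPt f F t x s ↔ FlatPt f F' t x s :=
  ⟨fun h z hz hz' => Models2.FlatIso.isFlatOverAt_of_iso _
      ((Scheme.Modules.pullback (pullback.fst f t)).mapIso e) z (h z hz hz'),
    fun h z hz hz' => Models2.FlatIso.isFlatOverAt_of_iso _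
      ((Scheme.Modules.pullback (pullback.fst f t)).mapIso e).symm z (h z hz hz')⟩

end

section

variable {A B R C M N : Type u} [CommRing A] [CommRing B] [CommRing R] [CommRing C] [Algebra A B] [Algebra A R]
  [Algebra B C] [Algebra R C] [Algebra A C] [IsScalarTower A B C] [IsScalarTower A R C] [Algebra.IsPushout A R B C]
  [AddCommGroup M] [Module B M] [AddCommGroup N] [Module C N] [Module B N] [IsScalarTower B C N]
  [Module R N] [IsScalarTower R C N]

theorem flatPt_tilde_iff (g : M →ₗ[B] N) (hg : IsBaseChange C g) (q : Ideal B) [q.IsPrime] (p : Ideal R) [p.IsPrime] :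
    FlatPt (Spec.map (CommRingCat.ofHom (algebraMap A B))) (tilde (R := CommRingCat.of B) (ModuleCat.of B M))
      (Spec.map (CommRingCat.ofHom (algebraMap A R))) (pt q) (pt p) ↔
    ∀ (Q : Ideal C) [Q.IsPrime], Q.comap (algebraMap B C) = q → Q.comap (algebraMap R C) = p →
      FlatCA.FlatAt R Q N := by
  have h1 := CommRingCat.isPushout_of_isPushout A R B C
  have H : IsPullback (Spec.map (CommRingCat.ofHom (algebraMap B C))) (Spec.map (CommRingCat.ofHom (algebraMap R C)))
      (Spec.map (CommRingCat.ofHom (algebraMap A B))) (Spec.map (CommRingCat.ofHom (algebraMap A R))) :=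
    isPullback_SpecMap_of_isPushout _ _ _ _ h1.flip
  rw [flatPt_iff_of_isPullback H]
  let e : (Scheme.Modules.pullback (Spec.map (CommRingCat.ofHom (algebraMap B C)))).obj
        (tilde (R := CommRingCat.of B) (ModuleCat.of B M)) ≅ tilde (R := CommRingCat.of C) (ModuleCat.of C N) :=
    Ega1.TildePullback.pullbackTildeIso B C M ≪≫
      (tilde.functor (CommRingCat.of C)).mapIso (LinearEquiv.toModuleIso
        (X₁ := ModuleCat.of C (C ⊗[B] M)) (X₂ := ModuleCat.of C N) hg.equiv)
  have key : ∀ (Q : Ideal C) [Q.IsPrime], FlatMod.IsFlatOverAt (Spec.map (CommRingCat.ofHom (algebraMap R C)))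
      ((Scheme.Modules.pullback (Spec.map (CommRingCat.ofHom (algebraMap B C)))).obj
        (tilde (R := CommRingCat.of B) (ModuleCat.of B M))) (pt Q) ↔ FlatCA.FlatAt R Q N := by
    intro Q _
    rw [← isFlatOverAt_tilde_iff]
    exact ⟨Models2.FlatIso.isFlatOverAt_of_iso _ e _, Models2.FlatIso.isFlatOverAt_of_iso _ e.symm _⟩
  constructor
  · intro h Q hQ h2 h3
    refine (key Q).mp (h (pt Q) ?_ ?_)
    · rw [map_pt, pt_eq_iff, h2]
    · rw [map_pt, pt_eq_iff, h3]
  · intro h z hz hz'
    obtain ⟨Q, hQ, rfl⟩ := exists_eq_pt z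
    rw [map_pt, pt_eq_iff] at hz hz'
    exact (key Q).mpr (h Q hz hz')

variable {X Y : Scheme.{u}} {f : X ⟶ Y} {F : X.Modules}

/-- **Flatness after base change in charts.** -/
theorem flatPt_iff_chart (jU : Spec (CommRingCat.of B) ⟶ X) [IsOpenImmersion jU] (jV : Spec (CommRingCat.of A) ⟶ Y)
    [Mono jV] (w : jU ≫ f = Spec.map (CommRingCat.ofHom (algebraMap A B)) ≫ jV)
    (α : (Scheme.Modules.pullback jU).obj F ≅ tilde (R := CommRingCat.of B) (ModuleCat.of B M))
    (g : M →ₗ[B] N) (hg : IsBaseChange C g) (q : Ideal B) [q.IsPrime] (p : Ideal R) [p.IsPrime] :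
    FlatPt f F (Spec.map (CommRingCat.ofHom (algebraMap A R)) ≫ jV) (jU (pt q)) (pt p) ↔
    ∀ (Q : Ideal C) [Q.IsPrime], Q.comap (algebraMap B C) = q → Q.comap (algebraMap R C) = p →
      FlatCA.FlatAt R Q N := by
  rw [← flatPt_tilde_iff (A := A) (R := R) (C := C) g hg q p, flatPt_source jU _ _, w, flatPt_target, flatPt_iso α]

/-- Pointwise flatness in charts. -/
theorem isFlatOverAt_iff_chart [Module A M] [IsScalarTower A B M]
    (jU : Spec (CommRingCat.of B) ⟶ X) [IsOpenImmersion jU] (jV : Spec (CommRingCat.of A) ⟶ Y)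
    [IsOpenImmersion jV] (w : jU ≫ f = Spec.map (CommRingCat.ofHom (algebraMap A B)) ≫ jV)
    (α : (Scheme.Modules.pullback jU).obj F ≅ tilde (R := CommRingCat.of B) (ModuleCat.of B M)) (q : Ideal B) [q.IsPrime] :
    FlatMod.IsFlatOverAt f F (jU (pt q)) ↔ FlatCA.FlatAt A q M := by
  rw [← isFlatOverAt_tilde_iff, ← Ega3B.FlatRestrict.isFlatOverAt_restrict_iff _ _ jU jV w]
  let e := (Scheme.Modules.restrictFunctorIsoPullback jU).app F ≪≫ α
  exact ⟨Models2.FlatIso.isFlatOverAt_of_iso _ e _, Models2.FlatIso.isFlatOverAt_of_iso _ e.symm _⟩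

end

/-- Charts around a point. -/
theorem exists_chart {X Y : Scheme.{u}} (f : X ⟶ Y) (F : X.Modules) (hF : Coh.IsQCoh F) {V : Y.Opens} {U : X.Opens}
    (hV : IsAffineOpen V) (hU : IsAffineOpen U) (e : U ≤ f ⁻¹ᵁ V) :
    letI := VarietyB.FlatH0.algOver f e
    hU.fromSpec ≫ f = Spec.map (CommRingCat.ofHom (algebraMap Γ(Y, V) Γ(X, U))) ≫ hV.fromSpec ∧
    Nonempty ((Scheme.Modules.pullback hU.fromSpec).obj F ≅
      tilde (R := CommRingCat.of Γ(X, U)) (ModuleCat.of Γ(X, U) Γ(F, U))) :=
  ⟨(IsAffineOpen.SpecMap_appLE_fromSpec f hV hU e).symm,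
    ⟨((Scheme.Modules.restrictFunctorIsoPullback hU.fromSpec).app F).symm ≪≫
      Models2.FreeRes.restrictFromSpecIso F hF hU⟩⟩

end K120.FlatPtAlg
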