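import Mathlib.RingTheory.Jacobson.Ring
import Mathlib.RingTheory.Algebraic.Integral
import Mathlib.RingTheory.Localization.Integral
import Mathlib.RingTheory.Localization.Away.AdjoinRoot
import Mathlib.RingTheory.Localization.LocalizationLocalization
import Mathlib.RingTheory.Spectrum.Prime.Topology

/-!
# Goldman domains: a domain `B` contained in a field of finite type over `B`
-/

set_option autoImplicit false
universe u v

namespace K120.Goldman

/-- A domain `B` which embeds in a field of finite type over `B` has a localization `B_f` that is a field. -/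
theorem exists_away_isField_of_finiteType {B : Type u} [CommRing B] [IsDomain B] {K : Type v} [Field K] [Algebra B K]
    (hinj : Function.Injective (algebraMap B K)) [hft : Algebra.FiniteType B K] :
    ∃ f : B, f ≠ 0 ∧ IsField (Localization.Away f) := by
  classical
  let L := FractionRing B
  have : FaithfulSMul B K := (faithfulSMul_iff_algebraMap_injective B K).mpr hinj
  let _ : Algebra L K := FractionRing.liftAlgebra B K
  have : IsScalarTower B L K := FractionRing.isScalarTower_liftAlgebra B K
  have : Algebra.FiniteType L K := Algebra.FiniteType.of_restrictScalars_finiteType B L K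
  have hfin : Module.Finite L K := finite_of_finite_type_of_isJacobsonRing L K
  have halg : ∀ x : K, IsAlgebraic B x := fun x =>
    (IsFractionRing.isAlgebraic_iff B L K).mpr (Algebra.IsAlgebraic.isAlgebraic x)
  obtain ⟨s, hs⟩ := hft.out
  choose y hy0 hy using fun x : K => (halg x).exists_integral_multiple
  let f : B := ∏ x ∈ s, y x
  have hf0 : f ≠ 0 := Finset.prod_ne_zero_iff.mpr fun x _ => hy0 x
  refine ⟨f, hf0, ?_⟩
  have hu : IsUnit (algebraMap B K f) := by
    rw [isUnit_iff_ne_zero]
    exact fun h => hf0 (hinj (by rw [h, map_zero]))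
  let φ : Localization.Away f →+* K := IsLocalization.Away.lift f hu
  let _ : Algebra (Localization.Away f) K := φ.toAlgebra
  have hst : IsScalarTower B (Localization.Away f) K := .of_algebraMap_eq fun b =>
    (IsLocalization.Away.lift_eq f hu b).symm
  have hdom : IsDomain (Localization.Away f) :=
    IsLocalization.isDomain_localization (powers_le_nonZeroDivisors_of_noZeroDivisors hf0)
  have hφ : Function.Injective (algebraMap (Localization.Away f) K) := by
    rw [injective_iff_map_eq_zero]
    intro z hz
    obtain ⟨b, m, rfl⟩ := IsLocalization.exists_mk'_eq (Submonoid.powers f) z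
    have h1 : algebraMap (Localization.Away f) K (IsLocalization.mk' (Localization.Away f) b m) *
        algebraMap (Localization.Away f) K (algebraMap B _ m) = algebraMap B K b := by
      rw [← map_mul, IsLocalization.mk'_spec, ← IsScalarTower.algebraMap_apply]
    rw [hz, zero_mul] at h1
    have : b = 0 := hinj (by rw [map_zero, ← h1])
    rw [this, IsLocalization.mk'_zero]
  have hint : Algebra.IsIntegral (Localization.Away f) K := by
    rw [← integralClosure_eq_top_iff, eq_top_iff]
    have h1 : (⊤ : Subalgebra B K) ≤ (integralClosure (Localization.Away f) K).restrictScalars B := by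
      rw [← hs]
      refine Algebra.adjoin_le fun x hx => ?_
      change IsIntegral (Localization.Away f) x
      have h2 : IsIntegral (Localization.Away f) (y x • x) := (hy x).tower_top
      have h3 : IsUnit (algebraMap B (Localization.Away f) (y x)) := by
        refine isUnit_of_dvd_unit ?_ (IsLocalization.Away.algebraMap_isUnit (S := Localization.Away f) f)
        exact map_dvd _ (Finset.dvd_prod_of_mem y hx)
      obtain ⟨v, hv⟩ := h3
      have h4 : x = algebraMap (Localization.Away f) K (↑v⁻¹) * (y x • x) := by
        rw [Algebra.smul_def, IsScalarTower.algebraMap_apply B (Localization.Away f) K, ← hv, ← mul_assoc,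
          ← map_mul, Units.inv_mul, map_one, one_mul]
      rw [h4]
      exact isIntegral_algebraMap.mul h2
    intro x hx
    exact h1 (Algebra.mem_top (R := B) (x := x))
  exact isField_of_isIntegral_of_isField hφ (Field.toIsField K)

/-- `B_f` is a field if and only if `f` lies in all nonzero primes (for `B` a domain, `f ≠ 0`). -/
theorem isField_away_iff {B : Type u} [CommRing B] [IsDomain B] {f : B} (hf : f ≠ 0) :
    IsField (Localization.Away f) ↔ ∀ p : Ideal B, p.IsPrime → p ≠ ⊥ → f ∈ p := by
  have hdom : IsDomain (Localization.Away f) :=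
    IsLocalization.isDomain_localization (powers_le_nonZeroDivisors_of_noZeroDivisors hf)
  have hinj : Function.Injective (algebraMap B (Localization.Away f)) :=
    IsLocalization.injective _ (powers_le_nonZeroDivisors_of_noZeroDivisors hf)
  constructor
  · intro h p hp hp0
    by_contra hfp
    have hdisj : Disjoint (Submonoid.powers f : Set B) (p : Set B) := by
      rw [Set.disjoint_left]
      rintro _ ⟨n, rfl⟩ hn
      exact hfp (hp.mem_of_pow_mem n hn)
    have h1 := IsLocalization.isPrime_of_isPrime_disjoint (Submonoid.powers f) (Localization.Away f) p hp hdisj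
    have h2 := IsLocalization.under_map_of_isPrime_disjoint (Submonoid.powers f) (Localization.Away f) hp hdisj
    let _ := h.toField
    have h3 : Ideal.map (algebraMap B (Localization.Away f)) p = ⊥ := by
      rcases Ideal.eq_bot_or_top (Ideal.map (algebraMap B (Localization.Away f)) p) with h | h
      · exact h
      · exact absurd h h1.ne_top
    rw [h3] at h2
    apply hp0
    rw [← h2, eq_bot_iff]
    intro x hx
    exact hinj (by simpa using hx)
  · intro H
    rw [Ring.isField_iff_maximal_bot]
    obtain ⟨m, hm⟩ := Ideal.exists_maximal (Localization.Away f)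
    have hmc : (m.comap (algebraMap B (Localization.Away f))).IsPrime := hm.isPrime.comap _
    have h0 : m.comap (algebraMap B (Localization.Away f)) = ⊥ := by
      by_contra hne
      have := H _ hmc hne
      rw [Ideal.mem_comap] at this
      exact hm.ne_top (m.eq_top_of_isUnit_mem this (IsLocalization.Away.algebraMap_isUnit f))
    have : m = ⊥ := by
      have h5 : Ideal.under B m = ⊥ := h0
      rw [← IsLocalization.map_under (Submonoid.powers f) (Localization.Away f) m, h5, Ideal.map_bot]
    exact this ▸ hm

/-- If `p` is a prime not containing `x`, there is a prime `q ≥ p` with `x ∉ q` and `(A/q)_x` a field -/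
theorem exists_prime_away_isField {A : Type u} [CommRing A] (p : Ideal A) [hp : p.IsPrime] {x : A} (hx : x ∉ p) :
    ∃ q : Ideal A, ∃ _ : q.IsPrime, p ≤ q ∧ x ∉ q ∧ IsField (Localization.Away (Ideal.Quotient.mk q x)) := by
  obtain ⟨q, hpq, hq⟩ := zorn_le_nonempty₀ {q : Ideal A | q.IsPrime ∧ x ∉ q} (fun c hc hchain y hy => by
    have hmem : ∀ a : A, a ∈ sSup c ↔ ∃ z ∈ c, a ∈ z := fun a =>
      Submodule.mem_sSup_of_directed ⟨y, hy⟩ hchain.directedOn
    refine ⟨sSup c, ⟨⟨?_, ?_⟩, ?_⟩, fun z hz => le_sSup hz⟩
    · rw [Ne, Ideal.eq_top_iff_one, hmem]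
      rintro ⟨z, hz, h1⟩
      exact (hc hz).1.ne_top ((Ideal.eq_top_iff_one z).mpr h1)
    · intro a b hab
      obtain ⟨z, hz, h1⟩ := (hmem _).mp hab
      exact ((hc hz).1.mem_or_mem h1).imp (fun h => (hmem _).mpr ⟨z, hz, h⟩) (fun h => (hmem _).mpr ⟨z, hz, h⟩)
    · rw [hmem]
      rintro ⟨z, hz, hxz⟩
      exact (hc hz).2 hxz) p ⟨hp, hx⟩
  have hqp : q.IsPrime := hq.prop.1
  refine ⟨q, hqp, hpq, hq.prop.2, ?_⟩
  have h0 : Ideal.Quotient.mk q x ≠ 0 := fun e => hq.prop.2 (Ideal.Quotient.eq_zero_iff_mem.1 e)
  rw [isField_away_iff h0]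
  intro P hP hP0
  by_contra hxP
  have hPc : (P.comap (Ideal.Quotient.mk q)).IsPrime := hP.comap _
  have h1 : q ≤ P.comap (Ideal.Quotient.mk q) := by
    intro z hz
    rw [Ideal.mem_comap, Ideal.Quotient.eq_zero_iff_mem.2 hz]
    exact P.zero_mem
  have h2 := hq.eq_of_le (show P.comap (Ideal.Quotient.mk q) ∈ {q : Ideal A | q.IsPrime ∧ x ∉ q} from
    ⟨hPc, fun h => hxP h⟩) h1
  apply hP0
  rw [eq_bot_iff]
  intro z hz
  obtain ⟨z, rfl⟩ := Ideal.Quotient.mk_surjective z
  have : z ∈ q := by rw [h2]; exact hz
  rw [Ideal.Quotient.eq_zero_iff_mem.2 this]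
  exact Submodule.zero_mem _

end K120.Goldman
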