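import Groth.Agent.Ega43.FlatKer

/-!
# Kernels of surjections onto finitely presented modules flat over the base

* `ker_finitePresentation`: `S` a finitely presented `R`-algebra, `G → H` a surjection of finitely presented
  `S`-modules with `H` flat over `R`; then the kernel is finitely presented.
* `fg_ker_of_flat_coker`: `S` finitely presented over `R`, `u : N → M` an `S`-linear map, `N` finite, `M` and the
  cokernel `H` finitely presented and `H` flat over `R`: `ker u` is finitely generated.
-/

set_option autoImplicit false
universe u

namespace K120.KerFlat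

open Groth.Agent

variable {R S : Type u} [CommRing R] [CommRing S] [Algebra R S] [Algebra.FinitePresentation R S]

theorem ker_finitePresentation {G H : Type u} [AddCommGroup G] [Module S G] [Module.FinitePresentation S G]
    [AddCommGroup H] [Module S H] [Module R H] [IsScalarTower R S H] [Module.FinitePresentation S H]
    [Module.Flat R H] (π : G →ₗ[S] H) (hπ : Function.Surjective π) :
    Module.FinitePresentation S (LinearMap.ker π) := by
  obtain ⟨m, p, hp⟩ := Module.Finite.exists_fin' S G
  have hK : Module.FinitePresentation S (LinearMap.ker (π ∘ₗ p)) :=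
    Ega43.FlatKer.kerFP R S H m (π ∘ₗ p) (hπ.comp hp)
  have hG : (LinearMap.ker p).FG := Module.FinitePresentation.fg_ker p hp
  let q : LinearMap.ker (π ∘ₗ p) →ₗ[S] LinearMap.ker π :=
    (p ∘ₗ (LinearMap.ker (π ∘ₗ p)).subtype).codRestrict _ fun x => x.2
  have hq : Function.Surjective q := by
    rintro ⟨g, hg⟩
    obtain ⟨x, rfl⟩ := hp g
    exact ⟨⟨x, hg⟩, rfl⟩
  refine Module.finitePresentation_of_surjective q hq ?_
  let i : LinearMap.ker p →ₗ[S] LinearMap.ker (π ∘ₗ p) :=
    (LinearMap.ker p).subtype.codRestrict _ fun x => by
      rw [LinearMap.mem_ker, LinearMap.comp_apply, Submodule.subtype_apply, LinearMap.mem_ker.mp x.2, map_zero]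
  have : LinearMap.ker q = LinearMap.range i := by
    ext x
    constructor
    · intro hx
      have hx' : p x = 0 := congrArg Subtype.val (LinearMap.mem_ker.mp hx)
      exact ⟨⟨x, hx'⟩, rfl⟩
    · rintro ⟨y, rfl⟩
      exact Subtype.ext (LinearMap.mem_ker.mp y.2)
  rw [this, LinearMap.range_eq_map]
  have : Module.Finite S (LinearMap.ker p) := Module.Finite.iff_fg.mpr hG
  exact Module.Finite.fg_top.map i

/-- If `N → M → H → 0` is exact, `N` finite, `M` and `H` finitely presented over `S` and `H` flat over `R`, then
`ker (N → M)` is finitely generated. -/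
theorem fg_ker_of_flat_coker {N M H : Type u} [AddCommGroup N] [Module S N] [Module.Finite S N]
    [AddCommGroup M] [Module S M] [Module.FinitePresentation S M]
    [AddCommGroup H] [Module S H] [Module R H] [IsScalarTower R S H] [Module.FinitePresentation S H]
    [Module.Flat R H] (v : N →ₗ[S] M) (π : M →ₗ[S] H) (hπ : Function.Surjective π) (hex : Function.Exact v π) :
    (LinearMap.ker v).FG := by
  have h1 := ker_finitePresentation (R := R) π hπ
  have hex' : LinearMap.ker π = LinearMap.range v := LinearMap.exact_iff.mp hex
  have h2 : Module.FinitePresentation S (LinearMap.range v) := hex' ▸ h1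
  have h3 := Module.FinitePresentation.fg_ker v.rangeRestrict v.surjective_rangeRestrict
  rwa [LinearMap.ker_rangeRestrict] at h3

end K120.KerFlat
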