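import Groth.Agent.FormalB.PpFF
import Groth.Agent.PerfC.CyclicGlue
import Groth.Agent.FlatA.SteinNoeth
import Groth.Agent.CurvesC.UnitCoh

/-!
# The adic topology of a Noetherian ring and the local rings of a proper scheme

`exists_pow_ker`: `X` proper over the Noetherian ring `A`, `A → Γ(X, O_X)` injective, `I` an ideal of `A`. For every
`N` there is `n` such that an element of `A` with germs in `I^n O_{X, x}` for all `x` lies in `I^N`.
-/

set_option autoImplicit false
universe u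
open CategoryTheory CategoryTheory.Limits AlgebraicGeometry Opposite TopologicalSpace

namespace K120.KerTop

open Groth.Agent Groth.Agent.FormalB.ModPow Groth.Agent.FormalB.ModPowAff

/-- Membership in an ideal of sections over an affine open can be checked on germs. -/
theorem mem_of_germs {X : Scheme.{u}} {V : X.Opens} (hV : IsAffineOpen V) (J : Ideal Γ(X, V)) (t : Γ(X, V))
    (h : ∀ (x : X) (hx : x ∈ V), X.presheaf.germ V x hx t ∈ J.map (X.presheaf.germ V x hx).hom) : t ∈ J := by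
  refine Ideal.mem_of_localization_maximal fun P hP => ?_
  let q : PrimeSpectrum Γ(X, V) := ⟨P, hP.isPrime⟩
  have hxq : hV.fromSpec q ∈ V := by
    rw [← SetLike.mem_coe, ← hV.range_fromSpec]
    exact ⟨q, rfl⟩
  have h3 : hV.primeIdealOf ⟨hV.fromSpec q, hxq⟩ = q := by
    apply hV.fromSpec.isOpenEmbedding.injective
    exact hV.fromSpec_primeIdealOf _
  let _ : Algebra Γ(X, V) (X.presheaf.stalk (hV.fromSpec q)) := (X.presheaf.germ V (hV.fromSpec q) hxq).hom.toAlgebra
  have hloc : IsLocalization (hV.primeIdealOf ⟨hV.fromSpec q, hxq⟩).asIdeal.primeCompl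
      (X.presheaf.stalk (hV.fromSpec q)) := hV.isLocalization_stalk ⟨hV.fromSpec q, hxq⟩
  rw [h3] at hloc
  have h4 := h (hV.fromSpec q) hxq
  have h5 := (IsLocalization.algebraMap_mem_map_algebraMap_iff P.primeCompl (X.presheaf.stalk (hV.fromSpec q)) J t).mp h4
  exact (IsLocalization.algebraMap_mem_map_algebraMap_iff P.primeCompl (Localization.AtPrime P) J t).mpr h5

section

variable {A : Type u} [CommRing A] {X : Scheme.{u}} [X.Over (Spec (CommRingCat.of A))]

theorem toΓ_rres {U V : X.Opens} (h : V ≤ U) (a : A) : PerfC.CyclicGlue.rres h (toΓ A X U a) = toΓ A X V a := by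
  change PerfC.CyclicGlue.rres h (resΓ X U _) = resΓ X V _
  exact (ConcreteCategory.congr_hom (X.ringCatSheaf.obj.map_comp (homOfLE (le_top (a := U))).op
    (homOfLE h).op) _).symm

/-- the map to the stalk -/
noncomputable def toStk (A : Type u) [CommRing A] (X : Scheme.{u}) [X.Over (Spec (CommRingCat.of A))] (x : X) :
    A →+* X.presheaf.stalk x :=
  (X.presheaf.germ ⊤ x trivial).hom.comp (toΓ A X ⊤)

theorem germ_toΓ (U : X.Opens) (x : X) (hx : x ∈ U) (a : A) :
    X.presheaf.germ U x hx (toΓ A X U a) = toStk A X x a := by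
  rw [← toΓ_rres (le_top : U ≤ ⊤) a]
  exact TopCat.Presheaf.germ_res_apply _ _ _ _ _

theorem exists_pow_ker [IsNoetherianRing A] [IsProper (X ↘ Spec (CommRingCat.of A))]
    (hinj : Function.Injective (toΓ A X ⊤)) (I : Ideal A) (N : ℕ) :
    ∃ n : ℕ, ∀ a : A, (∀ x : X, toStk A X x a ∈ (I.map (toStk A X x)) ^ n) → a ∈ I ^ N := by
  let M := Coh.structureModule X
  obtain ⟨c, hc⟩ := FormalB.PpFF.exists_ker I (X := X) (M := M) (CurvesC.UnitCoh.isCoh_unit X)
  -- Artin-Rees
  let _ : Algebra A Γ(X, ⊤) := (toΓ A X ⊤).toAlgebra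
  have hfin : Module.Finite A Γ(X, ⊤) := by
    have h1 := FlatA.SteinNoeth.finite_toGlobal A X (X ↘ Spec (CommRingCat.of A))
    have h2 : ((Scheme.ΓSpecIso (CommRingCat.of A)).inv ≫ (X ↘ Spec (CommRingCat.of A)).appTop).hom = toΓ A X ⊤ := by
      ext a
      change _ = (X.presheaf.map (homOfLE (le_top (a := (⊤ : X.Opens)))).op).hom _
      rw [show (homOfLE (le_top (a := (⊤ : X.Opens)))).op = 𝟙 _ from rfl, X.presheaf.map_id]
      rfl
    rw [h2] at h1
    exact h1
  obtain ⟨k, hk⟩ := Ideal.exists_pow_inf_eq_pow_smul I (LinearMap.range (Algebra.linearMap A Γ(X, ⊤)))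
  refine ⟨N + k + c + 1, fun a ha => ?_⟩
  have h1 : (cπ I M (N + k + c)).app ⊤ (show Γ(M, ⊤) from toΓ A X ⊤ a) = 0 := by
    apply PerfC.CyclicGlue.eq_of_locally
    intro x _
    obtain ⟨V, hV, hxV, -⟩ := exists_isAffineOpen_mem_and_subset (x := x) (U := ⊤) trivial
    refine ⟨V, le_top, hxV, ?_⟩
    rw [← PerfC.CyclicGlue.app_res, PerfC.CyclicGlue.res_zero]
    have h2 : PerfC.CyclicGlue.res M (le_top : V ≤ ⊤) (show Γ(M, ⊤) from toΓ A X ⊤ a) =
        (show Γ(M, V) from toΓ A X V a) := toΓ_rres (le_top : V ≤ ⊤) a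
    rw [h2]
    refine (modPowπ_app_eq_zero_iff I _ M (CurvesC.UnitCoh.isQCoh_unit X) hV _).mpr ?_
    have h3 : toΓ A X V a ∈ (I.map (toΓ A X V)) ^ (N + k + c + 1) := by
      refine mem_of_germs hV _ _ fun y hy => ?_
      rw [germ_toΓ, Ideal.map_pow, Ideal.map_map]
      have h4 : (X.presheaf.germ V y hy).hom.comp (toΓ A X V) = toStk A X y := RingHom.ext fun b => germ_toΓ V y hy b
      rw [h4]
      exact ha y
    have h5 := Submodule.smul_mem_smul h3 (show (show Γ(M, V) from (1 : Γ(X, V))) ∈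
      (⊤ : Submodule Γ(X, V) Γ(M, V)) from trivial)
    have h6 : toΓ A X V a • (show Γ(M, V) from (1 : Γ(X, V))) = (show Γ(M, V) from toΓ A X V a) :=
      mul_one (toΓ A X V a)
    rw [h6] at h5
    exact h5
  have h2 := hc (N + k + c) (by omega) _ h1
  have h3 : N + k + c - c = N + k := by omega
  rw [h3] at h2
  -- `h2`: the element is in `I^(N+k) H`
  have h4 : toΓ A X ⊤ a ∈ (I ^ (N + k)) • (⊤ : Submodule A Γ(X, ⊤)) := by
    rw [Ideal.smul_top_eq_map, Submodule.restrictScalars_mem, Ideal.map_pow]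
    have h5 : ∀ y : Γ(M, ⊤), y ∈ ((I.map (toΓ A X ⊤)) ^ (N + k) • (⊤ : Submodule Γ(X, ⊤) Γ(M, ⊤))) →
        (show Γ(X, ⊤) from y) ∈ (I.map (algebraMap A Γ(X, ⊤))) ^ (N + k) := by
      intro y hy
      refine Submodule.smul_induction_on hy (fun r hr n _ => ?_) (fun u v hu hv => ?_)
      · exact Ideal.mul_mem_right (show Γ(X, ⊤) from n) _ hr
      · exact Ideal.add_mem _ hu hv
    exact h5 _ h2
  have h5 : toΓ A X ⊤ a ∈ (I ^ (N + k)) • (⊤ : Submodule A Γ(X, ⊤)) ⊓ LinearMap.range (Algebra.linearMap A Γ(X, ⊤)) :=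
    ⟨h4, a, rfl⟩
  rw [hk (N + k) (by omega)] at h5
  have h6 : N + k - k = N := by omega
  rw [h6] at h5
  have h7 : toΓ A X ⊤ a ∈ I ^ N • LinearMap.range (Algebra.linearMap A Γ(X, ⊤)) :=
    Submodule.smul_mono le_rfl inf_le_right h5
  rw [LinearMap.range_eq_map, ← Submodule.map_smul''] at h7
  obtain ⟨b, hb, hba⟩ := h7
  have h8 : b = a := hinj hba
  rw [← h8]
  have h9 : I ^ N • (⊤ : Submodule A A) = I ^ N := by rw [smul_eq_mul, Ideal.mul_top]
  rw [← h9]
  exact hb

end

end K120.KerTop
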