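import Groth.Agent.Ega43.NilpotentFlat
import Mathlib.RingTheory.SimpleModule.InjectiveProjective
import Mathlib.RingTheory.Jacobson.Semiprimary
import Mathlib.RingTheory.Ideal.Quotient.Operations
import Mathlib.LinearAlgebra.DirectSum.Finsupp
import Mathlib.Algebra.Module.Torsion.Basic
import Mathlib.RingTheory.Spectrum.Maximal.Basic
import Mathlib.RingTheory.Jacobson.Ideal

/-!
# Descent of flatness along an arbitrary jointly injective family, projective modulo a nilpotent ideal

`flat_of_nilpotent_of_projective`: `J` a nilpotent ideal of `A`, `(B i)` a jointly injective family of `A`-algebras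
(arbitrary), `M` an `A`-module with `M / J M` projective over `A / J` and `B i ⊗ M` flat over `B i`: `M` is flat.
-/

set_option autoImplicit false
universe u v w t

open TensorProduct

namespace K120.NilpotentFamily

open Groth.Agent.Ega43.NilpotentFlat

section Pi

variable {R : Type*} [CommRing R] {ι : Type*} (P : ι → Type*) [∀ i, AddCommGroup (P i)] [∀ i, Module R (P i)]

theorem finsuppScalarRight_proj (K : Type*) [DecidableEq K] (w : (∀ i, P i) ⊗[R] (K →₀ R)) (k : K) (i : ι) :
    (TensorProduct.finsuppScalarRight R R (∀ i, P i) K w) k i =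
      TensorProduct.finsuppScalarRight R R (P i) K (((LinearMap.proj i : (∀ i, P i) →ₗ[R] P i).rTensor (K →₀ R)) w) k := by
  induction w with
  | zero => simp
  | add x y hx hy => rw [map_add, map_add, map_add, Finsupp.add_apply, Pi.add_apply, Finsupp.add_apply, hx, hy]
  | tmul a m =>
    rw [LinearMap.rTensor_tmul, TensorProduct.finsuppScalarRight_apply_tmul_apply,
      TensorProduct.finsuppScalarRight_apply_tmul_apply]
    rfl

/-- `(∏ P_i) ⊗ Q → ∏ (P_i ⊗ Q)` is injective for `Q` projective. -/
theorem eq_zero_of_projective (Q : Type*) [AddCommGroup Q] [Module R Q] [hQ : Module.Projective R Q]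
    (z : (∀ i, P i) ⊗[R] Q) (h : ∀ i, (LinearMap.proj i : (∀ i, P i) →ₗ[R] P i).rTensor Q z = 0) : z = 0 := by
  classical
  obtain ⟨s, hs⟩ := Module.projective_def'.mp hQ
  have h1 : s.lTensor (∀ i, P i) z = 0 := by
    apply (TensorProduct.finsuppScalarRight R R (∀ i, P i) Q).injective
    rw [map_zero]
    ext k i
    rw [finsuppScalarRight_proj]
    have h2 : ((LinearMap.proj i : (∀ i, P i) →ₗ[R] P i).rTensor (Q →₀ R)) (s.lTensor (∀ i, P i) z) =
        s.lTensor (P i) ((LinearMap.proj i : (∀ i, P i) →ₗ[R] P i).rTensor Q z) := by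
      rw [← LinearMap.comp_apply, ← LinearMap.comp_apply, LinearMap.rTensor_comp_lTensor,
        LinearMap.lTensor_comp_rTensor]
    rw [h2, h i, map_zero, map_zero]
    rfl
  have h3 : (Finsupp.linearCombination R (id : Q → Q)).lTensor (∀ i, P i) (s.lTensor (∀ i, P i) z) = z := by
    rw [← LinearMap.comp_apply, ← LinearMap.lTensor_comp, hs, LinearMap.lTensor_id, LinearMap.id_apply]
  rw [← h3, h1, map_zero]

end Pi

section Descent

variable {A : Type u} [CommRing A]

theorem eq_zero_of_projective_quotient (J : Ideal A) (M : Type w) [AddCommGroup M] [Module A M]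
    [Module.Projective (A ⧸ J) ((A ⧸ J) ⊗[A] M)] {ι : Type t} (P : ι → Type v) [∀ i, AddCommGroup (P i)]
    [∀ i, Module A (P i)] (hP : ∀ i, ∀ a ∈ J, ∀ x : P i, a • x = 0)
    (z : (∀ i, P i) ⊗[A] M) (h : ∀ i, (LinearMap.proj i : (∀ i, P i) →ₗ[A] P i).rTensor M z = 0) : z = 0 := by
  have ht : ∀ i, Module.IsTorsionBySet A (P i) (J : Set A) := fun i x a => hP i a.1 a.2 x
  let _ : ∀ i, Module (A ⧸ J) (P i) := fun i => (ht i).module
  have _ : ∀ i, IsScalarTower A (A ⧸ J) (P i) := fun i => (ht i).isScalarTower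
  let e : (∀ i, P i) ⊗[A ⧸ J] ((A ⧸ J) ⊗[A] M) ≃ₗ[A ⧸ J] (∀ i, P i) ⊗[A] M :=
    AlgebraTensorModule.cancelBaseChange A (A ⧸ J) (A ⧸ J) (∀ i, P i) M
  let e' : ∀ i, P i ⊗[A ⧸ J] ((A ⧸ J) ⊗[A] M) ≃ₗ[A ⧸ J] P i ⊗[A] M := fun i =>
    AlgebraTensorModule.cancelBaseChange A (A ⧸ J) (A ⧸ J) (P i) M
  have key : ∀ i (y : (∀ i, P i) ⊗[A ⧸ J] ((A ⧸ J) ⊗[A] M)),
      e' i ((LinearMap.proj i : (∀ i, P i) →ₗ[A ⧸ J] P i).rTensor _ y) =
        (LinearMap.proj i : (∀ i, P i) →ₗ[A] P i).rTensor M (e y) := by
    intro i y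
    induction y with
    | zero => simp
    | add x y hx hy => simp only [map_add, hx, hy]
    | tmul p q =>
      induction q with
      | zero => simp
      | add x y hx hy => simp only [map_add, tmul_add, hx, hy]
      | tmul a m =>
        rw [LinearMap.rTensor_tmul]
        change AlgebraTensorModule.cancelBaseChange A (A ⧸ J) (A ⧸ J) (P i) M _ =
          (LinearMap.proj i : (∀ i, P i) →ₗ[A] P i).rTensor M
            (AlgebraTensorModule.cancelBaseChange A (A ⧸ J) (A ⧸ J) (∀ i, P i) M _)
        rw [AlgebraTensorModule.cancelBaseChange_tmul, AlgebraTensorModule.cancelBaseChange_tmul,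
          LinearMap.rTensor_tmul]
        rfl
  obtain ⟨y, rfl⟩ := e.surjective z
  have : y = 0 := by
    apply eq_zero_of_projective P ((A ⧸ J) ⊗[A] M) y
    intro i
    apply (e' i).injective
    rw [map_zero, key, h i]
  rw [this, map_zero]

variable (M : Type w) [AddCommGroup M] [Module A M]
  {ι : Type t} (B : ι → Type v) [∀ i, CommRing (B i)] [∀ i, Algebra A (B i)]

theorem filt_step' (J : Ideal A) [Module.Projective (A ⧸ J) ((A ⧸ J) ⊗[A] M)]
    [∀ i, Module.Flat (B i) (B i ⊗[A] M)] (k : ℕ)
    (ih : Function.Injective ((filt B J (k + 1)).subtype.rTensor M)) :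
    Function.Injective ((filt B J k).subtype.rTensor M) := by
  classical
  let N : ∀ i, Submodule (B i) (B i) := fun i => (J.map (algebraMap A (B i))) ^ k
  let N' : ∀ i, Submodule (B i) (N i) := fun i =>
    Submodule.comap (N i).subtype ((J.map (algebraMap A (B i))) ^ (k + 1))
  let f : ∀ i, filt B J k →ₗ[A] N i := fun i =>
    { toFun := fun a => ⟨algebraMap A (B i) a, (mem_filt B).mp a.2 i⟩
      map_add' := fun a b => Subtype.ext (map_add _ _ _)
      map_smul' := fun a b => Subtype.ext (by
        change algebraMap A (B i) (a * b) = a • algebraMap A (B i) b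
        rw [map_mul, Algebra.smul_def]) }
  let g : ∀ i, filt B J k →ₗ[A] (N i ⧸ N' i) := fun i =>
    ((N' i).mkQ.restrictScalars A) ∘ₗ f i
  let G : filt B J k →ₗ[A] (∀ i, (N i ⧸ N' i)) := LinearMap.pi g
  let h : (filt B J k ⧸ LinearMap.ker G) →ₗ[A] (∀ i, (N i ⧸ N' i)) :=
    (LinearMap.ker G).liftQ G le_rfl
  have hh : Function.Injective h := by
    rw [← LinearMap.ker_eq_bot]
    exact Submodule.ker_liftQ_eq_bot _ _ _ le_rfl
  have hG : ∀ a : filt B J k, G a = 0 ↔ (a : A) ∈ filt B J (k + 1) := by
    intro a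
    rw [mem_filt, funext_iff]
    refine forall_congr' fun i => ?_
    change (N' i).mkQ (f i a) = 0 ↔ _
    rw [Submodule.mkQ_apply, Submodule.Quotient.mk_eq_zero]
    rfl
  have hT : ∀ i, ∀ a ∈ J, ∀ n : (N i ⧸ N' i), a • n = 0 := by
    intro i a ha n
    obtain ⟨n, rfl⟩ := (N' i).mkQ_surjective n
    have : a • (N' i).mkQ n = (N' i).mkQ (algebraMap A (B i) a • n) := by
      rw [map_smul, algebraMap_smul]
    rw [this, Submodule.mkQ_apply, Submodule.Quotient.mk_eq_zero]
    change algebraMap A (B i) a * (n : B i) ∈ (J.map (algebraMap A (B i))) ^ (k + 1)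
    rw [pow_succ']
    exact Ideal.mul_mem_mul (Ideal.mem_map_of_mem _ ha) n.2
  have hhM : Function.Injective (h.rTensor M) := by
    apply rTensor_injective_of_flat_quotient M J _ _ h hh
    · intro a ha n
      apply hh
      rw [map_smul, map_zero]
      exact funext fun i => hT i a ha _
    · intro a ha n
      exact funext fun i => hT i a ha _
  rw [← LinearMap.ker_eq_bot, Submodule.eq_bot_iff]
  intro x hx
  rw [LinearMap.mem_ker] at hx
  have h1 : ∀ i, (f i).rTensor M x = 0 := by
    intro i
    have hinj : Function.Injective (((N i).subtype.restrictScalars A).rTensor M) :=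
      rTensor_injective_of_flat_baseChange (B i) M (N i).subtype Subtype.val_injective
    apply hinj
    rw [map_zero, ← LinearMap.comp_apply, ← LinearMap.rTensor_comp]
    have : (N i).subtype.restrictScalars A ∘ₗ f i =
        Algebra.linearMap A (B i) ∘ₗ (filt B J k).subtype := by
      ext; rfl
    rw [this, LinearMap.rTensor_comp, LinearMap.comp_apply, hx, map_zero]
  have h2 : ∀ i, (g i).rTensor M x = 0 := by
    intro i
    rw [LinearMap.rTensor_comp, LinearMap.comp_apply, h1, map_zero]
  have h3 : G.rTensor M x = 0 := by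
    apply eq_zero_of_projective_quotient J M (fun i => (N i ⧸ N' i)) hT
    intro i
    rw [← LinearMap.comp_apply, ← LinearMap.rTensor_comp]
    exact h2 i
  have h4 : (LinearMap.ker G).mkQ.rTensor M x = 0 := by
    apply hhM
    have : h ∘ₗ (LinearMap.ker G).mkQ = G := (LinearMap.ker G).liftQ_mkQ G le_rfl
    rw [map_zero, ← LinearMap.comp_apply, ← LinearMap.rTensor_comp, this, h3]
  have hex : Function.Exact ((LinearMap.ker G).subtype.rTensor M)
      ((LinearMap.ker G).mkQ.rTensor M) :=
    rTensor_exact M (LinearMap.exact_subtype_mkQ _) (Submodule.mkQ_surjective _)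
  obtain ⟨y, hy⟩ := (hex x).mp h4
  let e : LinearMap.ker G →ₗ[A] filt B J (k + 1) :=
    ((filt B J k).subtype ∘ₗ (LinearMap.ker G).subtype).codRestrict (filt B J (k + 1))
      (fun z => (hG _).mp (LinearMap.mem_ker.mp z.2))
  have hle : filt B J (k + 1) ≤ filt B J k := by
    intro a ha
    rw [mem_filt] at ha ⊢
    exact fun i => Ideal.pow_le_pow_right k.le_succ (ha i)
  have he : Function.Bijective e := by
    constructor
    · intro a b hab
      have h : (((e a : filt B J (k + 1))) : A) = (((e b : filt B J (k + 1))) : A) := by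
        rw [hab]
      exact Subtype.ext (Subtype.ext h)
    · rintro ⟨z, hz⟩
      exact ⟨⟨⟨z, hle hz⟩, LinearMap.mem_ker.mpr ((hG _).mpr hz)⟩, rfl⟩
  have h5 : (e.rTensor M) y = 0 := by
    apply ih
    have : (filt B J (k + 1)).subtype ∘ₗ e =
        (filt B J k).subtype ∘ₗ (LinearMap.ker G).subtype := by
      ext; rfl
    rw [map_zero, ← LinearMap.comp_apply, ← LinearMap.rTensor_comp, this,
      LinearMap.rTensor_comp, LinearMap.comp_apply, hy, hx]
  have h6 : y = 0 := by
    have : Function.Injective (e.rTensor M) :=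
      (LinearEquiv.rTensor M (LinearEquiv.ofBijective e he)).injective
    apply this
    rw [h5, map_zero]
  rw [← hy, h6, map_zero]

/-- Descent of flatness along a jointly injective family of ring maps `A → B i` (arbitrary index set), for
modules which are projective modulo a nilpotent ideal. -/
theorem flat_of_nilpotent_of_projective (J : Ideal A) (hJ : IsNilpotent J)
    (hB : ∀ a : A, (∀ i, algebraMap A (B i) a = 0) → a = 0)
    (hM : Module.Projective (A ⧸ J) ((A ⧸ J) ⊗[A] M))
    (hBM : ∀ i, Module.Flat (B i) (B i ⊗[A] M)) : Module.Flat A M := by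
  obtain ⟨n, hn⟩ := hJ
  -- the last step of the filtration vanishes
  have hlast : ∀ k ≥ n, filt B J k = ⊥ := by
    intro k hk
    rw [eq_bot_iff]
    intro a ha
    rw [mem_filt] at ha
    apply hB
    intro i
    have h1 := Ideal.pow_le_pow_right hk (ha i)
    rw [← Ideal.map_pow, hn, Submodule.zero_eq_bot, Ideal.map_bot] at h1
    exact h1
  have key : ∀ d k : ℕ, n ≤ k + d → Function.Injective ((filt B J k).subtype.rTensor M) := by
    intro d
    induction d with
    | zero =>
      intro k hk
      have h0 := hlast k hk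
      have hsub : Subsingleton (filt B J k) := by
        rw [h0]; infer_instance
      have : Subsingleton (filt B J k ⊗[A] M) := inferInstance
      exact Function.injective_of_subsingleton _
    | succ d ih =>
      intro k hk
      exact filt_step' M B J k (ih (k + 1) (by omega))
  set F := filt B J 1 with hF
  have hJF : J ≤ F := by
    intro a ha
    rw [hF, mem_filt]
    intro i
    rw [pow_one]
    exact Ideal.mem_map_of_mem _ ha
  have hFn : IsNilpotent F := by
    refine ⟨n, ?_⟩
    rw [Submodule.zero_eq_bot, eq_bot_iff, ← hlast n le_rfl]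
    intro a ha
    rw [mem_filt]
    intro i
    have h1 : F.map (algebraMap A (B i)) ≤ J.map (algebraMap A (B i)) := by
      rw [Ideal.map_le_iff_le_comap]
      intro b hb
      rw [hF, mem_filt] at hb
      have := hb i
      rwa [pow_one] at this
    have h2 := Ideal.mem_map_of_mem (algebraMap A (B i)) ha
    rw [Ideal.map_pow] at h2
    exact Ideal.pow_right_mono h1 n h2
  have hflat : Module.Flat (A ⧸ F) ((A ⧸ F) ⊗[A] M) := by
    let _ : Algebra (A ⧸ J) (A ⧸ F) := (Ideal.Quotient.factor hJF).toAlgebra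
    have : IsScalarTower A (A ⧸ J) (A ⧸ F) := IsScalarTower.of_algebraMap_eq (fun a => rfl)
    exact Module.Flat.of_linearEquiv
      (AlgebraTensorModule.cancelBaseChange A (A ⧸ J) (A ⧸ F) (A ⧸ F) M).symm
  exact flat_of_nilpotent M F hFn (key n 1 (by omega))

end Descent

/-- A ring with finitely many maximal ideals is semisimple modulo its Jacobson radical. -/
theorem isSemisimpleRing_quotient_jacobson (A : Type u) [CommRing A] [Finite (MaximalSpectrum A)] :
    IsSemisimpleRing (A ⧸ Ring.jacobson A) := by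
  have h1 : Ring.jacobson A = ⨅ m : MaximalSpectrum A, m.asIdeal := by
    rw [← Ideal.jacobson_bot, Ideal.jacobson, sInf_eq_iInf']
    apply le_antisymm
    · exact le_iInf fun m => iInf_le_of_le ⟨m.asIdeal, bot_le, m.isMaximal⟩ le_rfl
    · exact le_iInf fun m => iInf_le_of_le ⟨m.1, m.2.2⟩ le_rfl
  have h2 : Pairwise (Function.onFun IsCoprime fun m : MaximalSpectrum A => m.asIdeal) := by
    intro m m' hne
    change IsCoprime m.asIdeal m'.asIdeal
    rw [Ideal.isCoprime_iff_sup_eq]
    exact m.isMaximal.coprime_of_ne m'.isMaximal fun h => hne (MaximalSpectrum.ext h)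
  have h3 : ∀ m : MaximalSpectrum A, IsSemisimpleRing (A ⧸ m.asIdeal) := fun m => by
    have := m.isMaximal
    let _ : Field (A ⧸ m.asIdeal) := Ideal.Quotient.field m.asIdeal
    infer_instance
  have h4 : IsSemisimpleRing (A ⧸ ⨅ m : MaximalSpectrum A, m.asIdeal) :=
    (Ideal.quotientInfRingEquivPiQuotient _ h2).symm.isSemisimpleRing
  rw [h1]
  exact h4

end K120.NilpotentFamily
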