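import Groth.Agent.EGA43.K120.KerTop
import Groth.Agent.EGA43.K120.AdicFamily

/-!
# Descent of flatness along a proper morphism over a Noetherian local ring
-/

set_option autoImplicit false
universe u
open CategoryTheory CategoryTheory.Limits AlgebraicGeometry Opposite TopologicalSpace IsLocalRing

namespace K120.ProperFamily

open Groth.Agent K120.FlatPt K120.FlatPtAlg K120.KerTop Groth.Agent.FormalB.ModPowAff

theorem mem_of_forall_sup_pow {R : Type*} [CommRing R] [IsNoetherianRing R] [IsLocalRing R] (J : Ideal R) (a : R)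
    (h : ∀ k : ℕ, a ∈ maximalIdeal R ^ k ⊔ J) : a ∈ J := by
  have h1 := Ideal.iInf_pow_smul_eq_bot_of_isLocalRing (R := R) (M := R ⧸ J) (maximalIdeal R)
    (IsLocalRing.maximalIdeal.isMaximal R).ne_top
  have h2 : Ideal.Quotient.mk J a ∈ (⨅ i : ℕ, maximalIdeal R ^ i • (⊤ : Submodule R (R ⧸ J))) := by
    rw [Submodule.mem_iInf]
    intro i
    obtain ⟨u, hu, v, hv, huv⟩ := Submodule.mem_sup.mp (h i)
    have h3 : Ideal.Quotient.mk J a = u • (Ideal.Quotient.mk J 1) := by
      rw [← huv, map_add, Ideal.Quotient.eq_zero_iff_mem.mpr hv, add_zero]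
      change _ = Ideal.Quotient.mk J (u • (1 : R))
      rw [smul_eq_mul, mul_one]
    rw [h3]
    exact Submodule.smul_mem_smul hu trivial
  rw [h1, Submodule.mem_bot] at h2
  exact Ideal.Quotient.eq_zero_iff_mem.mp h2

/-- Finitely many conditions suffice. -/
theorem exists_finset {A : Type*} [CommRing A] [IsNoetherianRing A] [IsLocalRing A] {ι : Type*} (J : ι → Ideal A) (n : ℕ)
    (hJ : ∀ i, maximalIdeal A ^ n ≤ J i) : ∃ s : Finset ι, ∀ i, s.inf J ≤ J i := by
  classical
  by_cases hn : n = 0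
  · refine ⟨∅, fun i => ?_⟩
    have := hJ i
    rw [hn, pow_zero, Ideal.one_eq_top, top_le_iff] at this
    rw [this]
    exact le_top
  have hart : IsArtinianRing (A ⧸ maximalIdeal A ^ n) :=
    K120.AdicFamily.isArtinianRing_quotient _ (K120.AdicFamily.pow_ne_top hn) le_rfl
  let K : Finset ι → Ideal (A ⧸ maximalIdeal A ^ n) := fun s => (s.inf J).map (Ideal.Quotient.mk _)
  obtain ⟨W, ⟨s, rfl⟩, hmin⟩ := IsArtinian.set_has_minimal (Set.range K) ⟨_, ∅, rfl⟩
  have hle : ∀ s : Finset ι, maximalIdeal A ^ n ≤ s.inf J := fun s => Finset.le_inf fun i _ => hJ i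
  have hcomap : ∀ s : Finset ι, (K s).comap (Ideal.Quotient.mk _) = s.inf J := by
    intro s
    rw [Ideal.comap_map_of_surjective _ Ideal.Quotient.mk_surjective, ← RingHom.ker_eq_comap_bot, Ideal.mk_ker]
    exact sup_eq_left.mpr (hle s)
  refine ⟨s, fun i => ?_⟩
  have h1 : K (insert i s) ≤ K s := Ideal.map_mono (Finset.inf_mono (Finset.subset_insert i s))
  have h2 : K (insert i s) = K s := by
    by_contra hne
    exact hmin _ ⟨insert i s, rfl⟩ (lt_of_le_of_ne h1 hne)
  have h3 : (insert i s).inf J = s.inf J := by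
    rw [← hcomap, ← hcomap, h2]
  rw [← h3, Finset.inf_insert]
  exact inf_le_left

section

variable {A : Type u} [CommRing A] {X : Scheme.{u}} [X.Over (Spec (CommRingCat.of A))]

theorem toΓ_top : toΓ A X ⊤ = ((Scheme.ΓSpecIso (CommRingCat.of A)).inv ≫ (X ↘ Spec (CommRingCat.of A)).appTop).hom := by
  ext a
  change (X.presheaf.map (homOfLE (le_top (a := (⊤ : X.Opens)))).op).hom _ = _
  rw [show (homOfLE (le_top (a := (⊤ : X.Opens)))).op = 𝟙 _ from rfl, X.presheaf.map_id]
  rfl

theorem SpecMap_toStk (x : X) : Spec.map (CommRingCat.ofHom (toStk A X x)) =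
    X.fromSpecStalk x ≫ (X ↘ Spec (CommRingCat.of A)) := by
  have h1 : CommRingCat.ofHom (toStk A X x) = (Scheme.ΓSpecIso (CommRingCat.of A)).inv ≫
      (X ↘ Spec (CommRingCat.of A)).appTop ≫ X.presheaf.germ ⊤ x trivial := by
    have : toStk A X x = ((X.presheaf.germ ⊤ x trivial).hom).comp (toΓ A X ⊤) := rfl
    rw [this, toΓ_top]
    rfl
  rw [h1, Spec.map_comp, Spec.map_comp, ← Scheme.fromSpecStalk_toSpecΓ, Category.assoc, Category.assoc]
  congr 1
  rw [← Category.assoc, ← Scheme.toSpecΓ_naturality, Category.assoc, ← SpecMap_ΓSpecIso_hom, ← Spec.map_comp]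
  simp

end

theorem SpecMap_toStk_pt {A : Type u} [CommRing A] {X : Scheme.{u}} [X.Over (Spec (CommRingCat.of A))] (x : X) :
    Spec.map (CommRingCat.ofHom (toStk A X x)) (pt (maximalIdeal (X.presheaf.stalk x))) =
      (X ↘ Spec (CommRingCat.of A)) x := by
  rw [SpecMap_toStk, Scheme.Hom.comp_apply]
  exact congrArg _ Scheme.fromSpecStalk_closedPoint

/-- Descent of flatness along a proper morphism, Noetherian local base. -/
theorem isFlatOverAt_of_proper_noeth {A : Type u} [CommRing A] [IsNoetherianRing A] [IsLocalRing A]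
    {X Y' : Scheme.{u}} (f : X ⟶ Spec (CommRingCat.of A)) [LocallyOfFiniteType f] (F : X.Modules)
    (hF : Coh.IsCoh F) (x : X) (hx : f x = pt (maximalIdeal A)) (g : Y' ⟶ Spec (CommRingCat.of A)) [hg : IsProper g]
    (hinj : Function.Injective ((Scheme.ΓSpecIso (CommRingCat.of A)).inv ≫ g.appTop).hom)
    (hflat : ∀ y' : Y', FlatPt f F g x y') : FlatMod.IsFlatOverAt f F x := by
  let iO : Y'.Over (Spec (CommRingCat.of A)) := ⟨g⟩
  have hprop : IsProper (Y' ↘ Spec (CommRingCat.of A)) := hg
  have hinj' : Function.Injective (toΓ A Y' ⊤) := by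
    rw [toΓ_top]
    exact hinj
  have hY' : IsLocallyNoetherian Y' := LocallyOfFiniteType.isLocallyNoetherian g
  -- the local homomorphisms
  have hcomap : ∀ y' : Y', g y' = pt (maximalIdeal A) →
      (maximalIdeal (Y'.presheaf.stalk y')).comap (toStk A Y' y') = maximalIdeal A := by
    intro y' hy'
    have h1 : Spec.map (CommRingCat.ofHom (toStk A Y' y')) (pt (maximalIdeal (Y'.presheaf.stalk y'))) =
        pt (maximalIdeal A) := (SpecMap_toStk_pt y').trans hy'
    rw [map_pt] at h1
    exact (pt_eq_iff _ _).mp h1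
  have hnot : ∀ y' : Y', g y' ≠ pt (maximalIdeal A) →
      (maximalIdeal A).map (toStk A Y' y') = ⊤ := by
    intro y' hy'
    by_contra hne
    apply hy'
    have h1 : Spec.map (CommRingCat.ofHom (toStk A Y' y')) (pt (maximalIdeal (Y'.presheaf.stalk y'))) =
        pt (maximalIdeal A) := by
      rw [map_pt]
      refine (pt_eq_iff _ _).mpr ?_
      have h2 : (maximalIdeal A) ≤ (maximalIdeal (Y'.presheaf.stalk y')).comap (toStk A Y' y') :=
        Ideal.map_le_iff_le_comap.mp (IsLocalRing.le_maximalIdeal hne)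
      exact ((IsLocalRing.maximalIdeal.isMaximal A).eq_of_le
        (Ideal.comap_ne_top _ (IsLocalRing.maximalIdeal.isMaximal _).ne_top) h2).symm
    exact (SpecMap_toStk_pt y').symm.trans h1
  let ι := {y' : Y' // g y' = pt (maximalIdeal A)}
  let R : ι → Type u := fun i => Y'.presheaf.stalk i.1
  let iR : ∀ i, Algebra A (R i) := fun i => (toStk A Y' i.1).toAlgebra
  have hloc : ∀ i, IsLocalHom (algebraMap A (R i)) := fun i =>
    ((IsLocalRing.local_hom_TFAE (toStk A Y' i.1)).out 0 4).mpr (hcomap i.1 i.2)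
  refine AdicFamily.isFlatOverAt_of_family_local f F hF x hx R (fun N => ?_) fun i => ?_
  · obtain ⟨n, hn⟩ := exists_pow_ker hinj' (maximalIdeal A) N
    let J : ι × ℕ → Ideal A := fun p =>
      (maximalIdeal (R p.1) ^ p.2 ⊔ (maximalIdeal A).map (toStk A Y' p.1.1) ^ n).comap (toStk A Y' p.1.1)
    have hJ : ∀ p, maximalIdeal A ^ n ≤ J p := by
      intro p
      rw [← Ideal.map_le_iff_le_comap, Ideal.map_pow]
      exact le_sup_right
    obtain ⟨s, hs⟩ := exists_finset J n hJ
    refine ⟨s, fun a ha => hn a fun y' => ?_⟩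
    by_cases hy' : g y' = pt (maximalIdeal A)
    · refine mem_of_forall_sup_pow _ _ fun k => ?_
      refine hs (⟨y', hy'⟩, k) ?_
      have h1 : (⨅ p ∈ s, Ideal.comap (algebraMap A (R p.1)) (maximalIdeal (R p.1) ^ p.2)) ≤ s.inf J := by
        refine Finset.le_inf fun p hp => ?_
        refine (iInf₂_le p hp).trans (Ideal.comap_mono le_sup_left)
      exact h1 ha
    · rw [hnot y' hy', Ideal.top_pow]
      trivial
  · have h1 := SpecMap_toStk (A := A) i.1
    refine flatPt_comp (t := g) (r := Y'.fromSpecStalk i.1) h1.symm ?_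
    have h2 : Y'.fromSpecStalk i.1 (IsLocalRing.closedPoint (Y'.presheaf.stalk i.1)) = i.1 :=
      Scheme.fromSpecStalk_closedPoint
    have h3 : FlatPt f F g x (Y'.fromSpecStalk i.1 (IsLocalRing.closedPoint (Y'.presheaf.stalk i.1))) := by
      rw [h2]
      exact hflat i.1
    exact h3

end K120.ProperFamily
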