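import Groth.Agent.EGA43.K120.ProperStage

/-!
# Descent of flatness along a proper morphism

`main`: `f : X ⟶ Y` locally of finite presentation, `F` finitely presented, `g : Y' ⟶ Y` proper of finite presentation
with `O_{Y, f x} → (g_* O_{Y'})_{f x}` injective; if the pullback of `F` is `Y'`-flat at the points over `x`, then `F` is
`Y`-flat at `x`.
-/

set_option autoImplicit false
universe u
open CategoryTheory CategoryTheory.Limits AlgebraicGeometry Opposite TopologicalSpace IsLocalRing TensorProduct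

namespace K120.ProperStage

open Groth.Agent K120.FlatPt K120.FlatPtAlg

section Inj

/-- Kernel of the map from the local ring, affine piece. -/
theorem exists_kill {Y Y' : Scheme.{u}} (g : Y' ⟶ Y) {y : Y} {V : Y.Opens} (hV : IsAffineOpen V) (hy : y ∈ V)
    {V' : Y'.Opens} (hV' : IsAffineOpen V') (e : V' ≤ g ⁻¹ᵁ V) (s : Γ(Y, V))
    (h : ((Scheme.ΓSpecIso (Y.presheaf.stalk y)).inv ≫ (pullback.snd g (Y.fromSpecStalk y)).appTop).hom
      (Y.presheaf.germ V y hy s) = 0) :
    ∃ t : Γ(Y, V), IsUnit (Y.presheaf.germ V y hy t) ∧ g.appLE V V' e (t * s) = 0 := by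
  let R : Type u := Γ(Y, V)
  let S : Type u := Γ(Y', V')
  let A : Type u := Y.presheaf.stalk y
  let i1 : Algebra R S := (g.appLE V V' e).hom.toAlgebra
  let i2 : Algebra R A := (Y.presheaf.germ V y hy).hom.toAlgebra
  let p : PrimeSpectrum R := hV.primeIdealOf ⟨y, hy⟩
  have hloc : IsLocalization p.asIdeal.primeCompl A := hV.isLocalization_stalk ⟨y, hy⟩
  have hw : Spec.map (CommRingCat.ofHom (algebraMap S (S ⊗[R] A))) ≫ hV'.fromSpec ≫ g =
      Spec.map (CommRingCat.ofHom (Algebra.TensorProduct.includeRight : A →ₐ[R] S ⊗[R] A).toRingHom) ≫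
        Y.fromSpecStalk y := by
    rw [← hV.fromSpecStalk_eq_fromSpecStalk hy, IsAffineOpen.fromSpecStalk,
      ← IsAffineOpen.SpecMap_appLE_fromSpec g hV hV' e, ← Category.assoc, ← Category.assoc, ← Spec.map_comp]
    have h1 : Spec.map (CommRingCat.ofHom (Algebra.TensorProduct.includeRight : A →ₐ[R] S ⊗[R] A).toRingHom) ≫
        Spec.map (Y.presheaf.germ V y hy) = Spec.map (Y.presheaf.germ V y hy ≫
          CommRingCat.ofHom (Algebra.TensorProduct.includeRight : A →ₐ[R] S ⊗[R] A).toRingHom) :=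
      (Spec.map_comp _ _).symm
    rw [h1]
    congr 2
    ext r
    change algebraMap S (S ⊗[R] A) (algebraMap R S r) = (1 : S) ⊗ₜ[R] (algebraMap R A r)
    rw [Algebra.TensorProduct.algebraMap_apply, Algebra.algebraMap_self, RingHom.id_apply,
      Algebra.algebraMap_eq_smul_one, Algebra.algebraMap_eq_smul_one, TensorProduct.smul_tmul]
  let k : Spec (CommRingCat.of (S ⊗[R] A)) ⟶ pullback g (Y.fromSpecStalk y) :=
    pullback.lift (Spec.map (CommRingCat.ofHom (algebraMap S (S ⊗[R] A))) ≫ hV'.fromSpec)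
      (Spec.map (CommRingCat.ofHom (Algebra.TensorProduct.includeRight : A →ₐ[R] S ⊗[R] A).toRingHom))
      (by rw [Category.assoc]; exact hw)
  have hk : k ≫ pullback.snd g (Y.fromSpecStalk y) =
      Spec.map (CommRingCat.ofHom (Algebra.TensorProduct.includeRight : A →ₐ[R] S ⊗[R] A).toRingHom) :=
    pullback.lift_snd _ _ _
  have h2 : (1 : S) ⊗ₜ[R] (algebraMap R A s) = 0 := by
    have h3 : ((Scheme.ΓSpecIso (Y.presheaf.stalk y)).inv ≫ (pullback.snd g (Y.fromSpecStalk y)).appTop) ≫ k.appTop =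
        CommRingCat.ofHom (Algebra.TensorProduct.includeRight : A →ₐ[R] S ⊗[R] A).toRingHom ≫
          (Scheme.ΓSpecIso (CommRingCat.of (S ⊗[R] A))).inv := by
      rw [Category.assoc, ← Scheme.Hom.comp_appTop, hk]
      exact (Scheme.ΓSpecIso_inv_naturality _).symm
    have h4 := ConcreteCategory.congr_hom h3 (Y.presheaf.germ V y hy s)
    rw [CommRingCat.comp_apply] at h4
    have h5 : (Scheme.ΓSpecIso (CommRingCat.of (S ⊗[R] A))).inv ((1 : S) ⊗ₜ[R] (algebraMap R A s)) = 0 := by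
      refine Eq.trans ?_ (h4.symm.trans ?_)
      · rfl
      · erw [h]
        exact map_zero _
    have h6 := congrArg (Scheme.ΓSpecIso (CommRingCat.of (S ⊗[R] A))).hom h5
    rw [map_zero, Iso.inv_hom_id_apply] at h6
    exact h6
  have h7 : algebraMap S (S ⊗[R] A) (algebraMap R S s) = 0 := by
    rw [← h2, Algebra.TensorProduct.algebraMap_apply, Algebra.algebraMap_self, RingHom.id_apply,
      Algebra.algebraMap_eq_smul_one, Algebra.algebraMap_eq_smul_one, TensorProduct.smul_tmul]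
  let i5 : Algebra A (S ⊗[R] A) := Algebra.TensorProduct.rightAlgebra
  have hloc' : IsLocalization (Algebra.algebraMapSubmonoid S p.asIdeal.primeCompl) (S ⊗[R] A) := by
    rw [Algebra.isLocalization_iff_isPushout p.asIdeal.primeCompl A]
    infer_instance
  rw [IsLocalization.map_eq_zero_iff (Algebra.algebraMapSubmonoid S p.asIdeal.primeCompl)] at h7
  obtain ⟨⟨_, t, ht, rfl⟩, hts⟩ := h7
  refine ⟨t, IsLocalization.map_units A (⟨t, ht⟩ : p.asIdeal.primeCompl), ?_⟩
  rw [map_mul]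
  exact hts

theorem injective_stalk {Y Y' : Scheme.{u}} (g : Y' ⟶ Y) [QuasiCompact g] (y : Y)
    (hinj : ∀ (V : Y.Opens) (s : Γ(Y, V)), y ∈ V → g.app V s = 0 →
      ∃ W : Y.Opens, y ∈ W ∧ ∃ hWV : W ≤ V, Y.presheaf.map (homOfLE hWV).op s = 0) :
    Function.Injective
      ((Scheme.ΓSpecIso (Y.presheaf.stalk y)).inv ≫ (pullback.snd g (Y.fromSpecStalk y)).appTop).hom := by
  rw [injective_iff_map_eq_zero]
  intro a ha
  obtain ⟨U, hyU, s₀, rfl⟩ := TopCat.Presheaf.exists_germ_eq Y.presheaf a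
  obtain ⟨V, hV, hyV, hVU⟩ := exists_isAffineOpen_mem_and_subset (x := y) (U := U) hyU
  let s : Γ(Y, V) := Y.presheaf.map (homOfLE hVU).op s₀
  have hs : Y.presheaf.germ V y hyV s = Y.presheaf.germ U y hyU s₀ := TopCat.Presheaf.germ_res_apply _ _ _ _ _
  rw [← hs] at ha ⊢
  have hcpt : IsCompact (X := Y') (g ⁻¹ᵁ V) := g.isCompact_preimage hV.isCompact
  obtain ⟨S, hS, hSU⟩ := isCompact_iff_finite_and_eq_biUnion_affineOpens.mp hcpt
  have hle : ∀ i ∈ S, (i : Y'.Opens) ≤ g ⁻¹ᵁ V := by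
    intro i hi
    rw [hSU]
    exact le_iSup₂_of_le i hi le_rfl
  have key : ∀ i : S, ∃ t : Γ(Y, V), IsUnit (Y.presheaf.germ V y hyV t) ∧ g.appLE V i.1 (hle i.1 i.2) (t * s) = 0 :=
    fun i => exists_kill g hV hyV i.1.2 (hle i.1 i.2) s ha
  choose t ht hts using key
  have : Fintype S := hS.fintype
  let T : Γ(Y, V) := ∏ i, t i
  have hT : IsUnit (Y.presheaf.germ V y hyV T) := by
    rw [map_prod]
    exact IsUnit.prod_univ_iff.mpr ht
  have h1 : g.app V (T * s) = 0 := by
    refine TopCat.Sheaf.eq_of_locally_eq' Y'.sheaf (fun i : S => (i.1 : Y'.Opens)) (g ⁻¹ᵁ V)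
      (fun i => homOfLE (hle i.1 i.2)) ?_ _ _ fun i => ?_
    · rw [hSU]
      exact iSup₂_le fun i hi => le_iSup (fun i : S => (i.1 : Y'.Opens)) ⟨i, hi⟩
    · refine Eq.trans ?_ (map_zero _).symm
      change (g.appLE V i.1 (hle i.1 i.2)) (T * s) = 0
      classical
      have h2 : T * s = (∏ j ∈ Finset.univ.erase i, t j) * (t i * s) := by
        rw [← mul_assoc, Finset.prod_erase_mul _ _ (Finset.mem_univ i)]
      rw [h2, map_mul, hts, mul_zero]
  obtain ⟨W, hyW, hWV, hW⟩ := hinj V (T * s) hyV h1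
  have h2 : Y.presheaf.germ V y hyV (T * s) = 0 := by
    have h3 := TopCat.Presheaf.germ_res_apply Y.presheaf (homOfLE hWV) y hyW (T * s)
    rw [← h3]
    erw [hW]
    exact map_zero _
  rw [map_mul] at h2
  exact hT.mul_right_eq_zero.mp h2

/-- `isFlatOverAt_local` for an object of `CommRingCat`. -/
theorem isFlatOverAt_local' (A : CommRingCat.{u}) [hA : IsLocalRing A] {X Y' : Scheme.{u}} (f : X ⟶ Spec A)
    [LocallyOfFinitePresentation f]
    (F : X.Modules) (hF : CohB1.IsFP F) (x : X) (hx : f x = closedPoint A)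
    (g : Y' ⟶ Spec A) [IsProper g] [LocallyOfFinitePresentation g]
    (hinj : Function.Injective ((Scheme.ΓSpecIso A).inv ≫ g.appTop).hom)
    (hflat : ∀ y', FlatPt f F g x y') : FlatMod.IsFlatOverAt f F x :=
  @isFlatOverAt_local A A.commRing hA X Y' f _ F hF x hx g _ _ hinj hflat

/-- Descent of flatness along a proper morphism. -/
theorem main {X Y Y' : Scheme.{u}} (f : X ⟶ Y)
    [LocallyOfFinitePresentation f] (F : X.Modules) (hF : CohB1.IsFP F) (x : X)
    (g : Y' ⟶ Y) [IsProper g] [LocallyOfFinitePresentation g]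
    (hinj : ∀ (V : Y.Opens) (s : Γ(Y, V)), f x ∈ V → g.app V s = 0 →
      ∃ W : Y.Opens, f x ∈ W ∧ ∃ hWV : W ≤ V, Y.presheaf.map (homOfLE hWV).op s = 0)
    (hflat : ∀ y', FlatPt f F g x y') : FlatMod.IsFlatOverAt f F x := by
  have hj : Flat (Y.fromSpecStalk (f x)) := S1471.flat_fromSpecStalk _ _
  have H := IsPullback.of_hasPullback f (Y.fromSpecStalk (f x))
  obtain ⟨x₁, hx₁, hx₁'⟩ := Scheme.exists_preimage_of_isPullback H x (closedPoint (Y.presheaf.stalk (f x)))
    Scheme.fromSpecStalk_closedPoint.symm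
  have h1 := isFlatOverAt_local' (Y.presheaf.stalk (f x)) (pullback.snd f (Y.fromSpecStalk (f x)))
    ((Scheme.Modules.pullback (pullback.fst f (Y.fromSpecStalk (f x)))).obj F)
    (FormalA.PullbackQC.isFP_pullback _ _ hF) x₁ hx₁' (pullback.snd g (Y.fromSpecStalk (f x)))
    (injective_stalk g (f x) hinj) (fun y' => by
      refine AdicFamily.flatPt_of_pullback H _ (pullback.condition (f := g)).symm ?_
      rw [hx₁]
      exact flatPt_comp rfl (hflat _))
  rw [← hx₁]
  exact Fdesc.FlatBC.isFlatOverAt_of_pullback H _ x₁ h1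

end Inj

end K120.ProperStage
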