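import Groth.Agent.EGA43.K120.ProperFamily
import Groth.Agent.EGA43.K120.FlatLimit
import Groth.Agent.Flat2G.FlatLocus
import Groth.Agent.Flat2D.SpecFGLimit
import Groth.Agent.FlatA.Model
import Groth.Agent.FormalA.PullbackQC
import Groth.Agent.PerfC.FPSections
import Groth.Agent.PerfA.FlatH0Local
import Groth.Agent.S0018

/-!
# Descent of flatness along a proper morphism over a local ring: reduction to the Noetherian case
-/

set_option autoImplicit false
universe u
open CategoryTheory CategoryTheory.Limits AlgebraicGeometry Opposite TopologicalSpace IsLocalRing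

namespace K120.ProperStage

open Groth.Agent K120.FlatPt K120.FlatPtAlg

/-- Converse of `flatPt_of_pullback`. -/
theorem flatPt_comp_of_pullback {X Y T T' P : Scheme.{u}} {f : X ⟶ Y} {F : X.Modules} {t : T ⟶ Y} {p : P ⟶ X}
    {q : P ⟶ T} (H : IsPullback p q f t) (r : T' ⟶ T) {t' : T' ⟶ Y} (ht' : r ≫ t = t') {x : X} {s : T'}
    (h : ∀ z, p z = x → FlatPt q ((Scheme.Modules.pullback p).obj F) r z s) : FlatPt f F t' x s := by
  subst ht'
  have H' : IsPullback (pullback.fst q r ≫ p) (pullback.snd q r) f (r ≫ t) :=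
    (IsPullback.of_hasPullback q r).paste_horiz H
  rw [flatPt_iff_of_isPullback H']
  intro w hw hw'
  exact Models2.FlatIso.isFlatOverAt_of_iso _ ((Scheme.Modules.pullbackComp (pullback.fst q r) p).app F) w
    (h _ (by rw [← Scheme.Hom.comp_apply, hw]) w rfl hw')

section Stage

variable {I : Type u} [SmallCategory I] [IsCofiltered I]
    {D : I ⥤ Scheme.{u}} {c : Limits.Cone D} (hc : Limits.IsLimit c)
    [∀ (i j : I) (φ : i ⟶ j), IsAffineHom (D.map φ)]

include hc in
/-- If the base change of `F₀` to `Y₀ ×_{D i₀} lim D` is flat then so is the base change to `Y₀ ×_{D i₀} D j` for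
some `j`. -/
theorem exists_stage_pullback {i₀ : I} {X₀ Y₀ : Scheme.{u}} (f₀ : X₀ ⟶ D.obj i₀) [LocallyOfFinitePresentation f₀]
    [QuasiCompact f₀] (g₀ : Y₀ ⟶ D.obj i₀) [CompactSpace Y₀] (F₀ : X₀.Modules) (hfp : CohB1.IsFP F₀)
    (h : ∀ x s, FlatPt f₀ F₀ (pullback.fst g₀ (c.π.app i₀) ≫ g₀) x s) :
    ∃ j : Over i₀, ∀ x s, FlatPt f₀ F₀ (pullback.fst g₀ (D.map j.hom) ≫ g₀) x s := by
  have hq : Coh.IsQCoh F₀ := PerfC.FPSections.isQCoh_of_isFP hfp
  have hcomp : CompactSpace (pullback f₀ g₀ : Scheme.{u}) :=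
    QuasiCompact.compactSpace_of_compactSpace (pullback.snd f₀ g₀)
  obtain ⟨j, hj⟩ := K120.FlatLimit.exists_stage hc (f₀ := pullback.snd f₀ g₀) g₀
    (F₀ := (Scheme.Modules.pullback (pullback.fst f₀ g₀)).obj F₀)
    (FormalA.PullbackQC.isQCoh_pullback _ _ hq) (FormalA.PullbackQC.isFP_pullback _ _ hfp) fun z s =>
      AdicFamily.flatPt_of_pullback (IsPullback.of_hasPullback f₀ g₀) _ rfl (h _ s)
  exact ⟨j, fun x s => flatPt_comp_of_pullback (IsPullback.of_hasPullback f₀ g₀) _ rfl fun z _ => hj z s⟩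

/-- Descent of proper morphisms of finite presentation to a stage. -/
theorem exists_descent (c : Limits.Cone D) (hc : Limits.IsLimit c) [∀ i, CompactSpace (D.obj i)]
    [∀ i, QuasiSeparatedSpace (D.obj i)] (X : Scheme.{u}) (f : X ⟶ c.pt)
    [IsProper f] [LocallyOfFinitePresentation f] :
    ∃ (i : I) (Xi : Scheme.{u}) (fi : Xi ⟶ D.obj i) (g : X ⟶ Xi),
      IsProper fi ∧ IsPullback g f fi (c.π.app i) := by
  obtain ⟨i₀, X₀, f₀, g₀, _, _, _, H₀⟩ := Groth.Agent.S0591.result D c hc X f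
  have : CompactSpace X₀ := QuasiCompact.compactSpace_of_compactSpace f₀
  have : QuasiSeparatedSpace X₀ := quasiSeparatedSpace_of_quasiSeparated f₀
  obtain ⟨i₁, φ₁, X₁, Y₁, f₁, gi₁, pY₁, pX₁, HY₁, HX₁, _⟩ :=
    Groth.Agent.S2074.result D c hc i₀ f₀ (𝟙 _) f (𝟙 _) (c.π.app i₀) g₀ (IsPullback.of_vert_isIso ⟨by simp⟩) H₀
  have H₁ := HX₁.paste_vert HY₁
  rw [Category.comp_id] at H₁
  obtain ⟨g₁, H₁'⟩ := PerfA.FlatH0Local.exists_change_stage H₀ H₁
  have : IsIso gi₁ := MorphismProperty.of_isPullback (P := MorphismProperty.isomorphisms _) HY₁ (by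
    change IsIso _; infer_instance)
  have hP₁ : IsProper (f₁ ≫ gi₁) := inferInstance
  exact ⟨i₁, X₁, f₁ ≫ gi₁, g₁, hP₁, H₁'⟩

end Stage

section Ring

open Flat2D.SpecFGLimit

variable {A : Type u} [CommRing A]

/-- A local Noetherian stage. -/
theorem exists_local_stage [IsLocalRing A] (j : (FGSub A)ᵒᵖ) :
    ∃ (Rm : Type u) (_ : CommRing Rm) (_ : IsNoetherianRing Rm) (_ : IsLocalRing Rm) (ψ : Rm →+* A)
      (ρ : Spec (CommRingCat.of Rm) ⟶ (specDiagram A).obj j), IsLocalHom ψ ∧ Function.Injective ψ ∧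
        Spec.map (CommRingCat.ofHom ψ) ≫ ρ = (specCone A).π.app j := by
  let R := j.unop.1
  let 𝔭 : Ideal R := (maximalIdeal A).comap (algebraMap R A)
  have : 𝔭.IsPrime := Ideal.comap_isPrime _ _
  have hRn : IsNoetherianRing R := inferInstance
  let Rm := Localization.AtPrime 𝔭
  have hunit : ∀ y : 𝔭.primeCompl, IsUnit (algebraMap R A y) := by
    rintro ⟨y, hy⟩
    by_contra hc
    exact hy ((mem_maximalIdeal _).mpr hc)
  let ψ : Rm →+* A := IsLocalization.lift (M := 𝔭.primeCompl) hunit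
  letI : Algebra Rm A := ψ.toAlgebra
  have hsc : IsScalarTower R Rm A := IsScalarTower.of_algebraMap_eq' (IsLocalization.lift_comp (M := 𝔭.primeCompl) hunit).symm
  have hloc : IsLocalHom (algebraMap Rm A) := by
    refine ⟨fun a ha => ?_⟩
    obtain ⟨⟨r, s⟩, hrs⟩ := IsLocalization.surj 𝔭.primeCompl a
    have h1 : IsUnit (algebraMap R A r) := by
      rw [IsScalarTower.algebraMap_apply R Rm A, ← hrs, map_mul]
      refine ha.mul ?_
      rw [← IsScalarTower.algebraMap_apply]
      exact hunit s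
    have h2 : r ∉ 𝔭 := fun hr => (mem_maximalIdeal _).mp hr h1
    have h3 : IsUnit (algebraMap R Rm r) := IsLocalization.map_units Rm (⟨r, h2⟩ : 𝔭.primeCompl)
    rw [← hrs] at h3
    exact isUnit_of_mul_isUnit_left h3
  refine ⟨Rm, inferInstance, inferInstance, inferInstance, ψ,
    Spec.map (CommRingCat.ofHom (algebraMap R Rm)), hloc, ?_, ?_⟩
  · rw [injective_iff_map_eq_zero]
    intro a ha
    obtain ⟨⟨r, s⟩, hrs⟩ := IsLocalization.surj 𝔭.primeCompl a
    have h1 : algebraMap R A r = 0 := by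
      rw [IsScalarTower.algebraMap_apply R Rm A, ← hrs, map_mul]
      change ψ a * _ = 0
      rw [ha, zero_mul]
    have h2 : r = 0 := Subtype.ext h1
    have h3 : a * algebraMap R Rm s = 0 := by rw [hrs, h2, map_zero]
    exact (IsLocalization.map_units Rm s).mul_left_eq_zero.mp h3
  · change Spec.map (CommRingCat.ofHom (algebraMap Rm A)) ≫ Spec.map (CommRingCat.ofHom (algebraMap R Rm)) = _
    rw [← Spec.map_comp, ← CommRingCat.ofHom_comp, ← IsScalarTower.algebraMap_eq]
    rfl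

/-- A model of a finitely presented pair at a stage. -/
theorem exists_model_stage (i₀ : (FGSub A)ᵒᵖ) {B M : Type u} [CommRing B] [Algebra A B]
    [Algebra.FinitePresentation A B] [AddCommGroup M] [Module B M] [Module.FinitePresentation B M] :
    ∃ (i₁ : (FGSub A)ᵒᵖ) (_ : i₁ ⟶ i₀) (X₁ : Scheme.{u}) (f₁ : X₁ ⟶ (specDiagram A).obj i₁) (F₁ : X₁.Modules)
      (a : Spec (CommRingCat.of B) ⟶ X₁), LocallyOfFinitePresentation f₁ ∧ QuasiCompact f₁ ∧ CohB1.IsFP F₁ ∧
        IsPullback a (Spec.map (CommRingCat.ofHom (algebraMap A B))) f₁ ((specCone A).π.app i₁) ∧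
        Nonempty ((Scheme.Modules.pullback a).obj F₁ ≅ tilde (R := CommRingCat.of B) (ModuleCat.of B M)) := by
  obtain ⟨T, hT⟩ := i₀.unop.2
  obtain ⟨R₀, S₀, M₀, _, _, _, _, _, _, _, _, _, _, g, hFG, hTR, hpo, hfp, -, hM₀, hg⟩ :=
    FlatA.Model.exists_model (R := A) (S := B) (M := M) T ∅
  have hle : i₀.unop.1 ≤ R₀ := by
    rw [← hT]
    exact Algebra.adjoin_le hTR
  let f₁ : Spec (CommRingCat.of S₀) ⟶ Spec (CommRingCat.of R₀) := Spec.map (CommRingCat.ofHom (algebraMap R₀ S₀))
  have hf₁ : LocallyOfFinitePresentation f₁ := by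
    rw [HasRingHomProperty.Spec_iff (P := @LocallyOfFinitePresentation)]
    exact RingHom.finitePresentation_algebraMap.mpr hfp
  have hf₁' : QuasiCompact f₁ := inferInstance
  have H : IsPullback (Spec.map (CommRingCat.ofHom (algebraMap S₀ B))) (Spec.map (CommRingCat.ofHom (algebraMap A B)))
      (Spec.map (CommRingCat.ofHom (algebraMap R₀ S₀))) (Spec.map (CommRingCat.ofHom (algebraMap R₀ A))) :=
    isPullback_SpecMap_of_isPushout _ _ _ _ (CommRingCat.isPushout_of_isPushout R₀ A S₀ B).flip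
  let _ : Module R₀ M := Module.compHom M (algebraMap R₀ S₀)
  refine ⟨op ⟨R₀, hFG⟩, (homOfLE hle).op, Spec (CommRingCat.of S₀), f₁,
    tilde (R := CommRingCat.of S₀) (ModuleCat.of S₀ M₀), Spec.map (CommRingCat.ofHom (algebraMap S₀ B)),
    hf₁, hf₁', PerfC.FPSections.isFP_tilde (R := CommRingCat.of S₀) M₀, H, ⟨?_⟩⟩
  exact Ega1.TildePullback.pullbackTildeIso S₀ B M₀ ≪≫ (tilde.functor (CommRingCat.of B)).mapIso
    (LinearEquiv.toModuleIso hg.equiv)

end Ring

section Main

open Flat2D.SpecFGLimit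

variable {A : Type u} [CommRing A] [IsLocalRing A]

/-- Descent of flatness along a proper morphism, affine source, local base, when the pullback is flat everywhere. -/
theorem isFlatOverAt_affine {B M : Type u} [CommRing B] [Algebra A B]
    [Algebra.FinitePresentation A B] [AddCommGroup M] [Module B M] [Module.FinitePresentation B M]
    (q : Spec (CommRingCat.of B)) (hq : Spec.map (CommRingCat.ofHom (algebraMap A B)) q = pt (maximalIdeal A))
    {Y' : Scheme.{u}} (g : Y' ⟶ Spec (CommRingCat.of A)) [hg : IsProper g] [hg' : LocallyOfFinitePresentation g]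
    (hinj : Function.Injective ((Scheme.ΓSpecIso (CommRingCat.of A)).inv ≫ g.appTop).hom)
    (hflat : ∀ x y', FlatPt (Spec.map (CommRingCat.ofHom (algebraMap A B)))
      (tilde (R := CommRingCat.of B) (ModuleCat.of B M)) g x y') :
    FlatMod.IsFlatOverAt (Spec.map (CommRingCat.ofHom (algebraMap A B)))
      (tilde (R := CommRingCat.of B) (ModuleCat.of B M)) q := by
  let D := specDiagram A
  let c := specCone A
  have hc : Limits.IsLimit c := isLimitSpecCone A
  have hg1 : IsProper (Y := c.pt) g := hg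
  have hg2 : LocallyOfFinitePresentation (Y := c.pt) g := hg'
  obtain ⟨i₀, Y₀, g₀, G, hg₀, HG⟩ := exists_descent (D := D) c hc Y' g
  obtain ⟨i₁, φ, X₁, f₁, F₁, a, hf₁, hf₁', hF₁, Ha, ⟨α⟩⟩ := exists_model_stage (A := A) i₀ (B := B) (M := M)
  let g₁ : pullback g₀ (D.map φ) ⟶ D.obj i₁ := pullback.snd _ _
  have hcomp : CompactSpace (pullback g₀ (D.map φ) : Scheme.{u}) := QuasiCompact.compactSpace_of_compactSpace g₁
  obtain ⟨j, hj⟩ := exists_stage_pullback hc (D := D) f₁ g₁ F₁ hF₁ (by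
    intro x₁ s
    refine flatPt_comp_of_pullback Ha (pullback.snd g₁ (c.π.app i₁)) pullback.condition.symm fun z hz => ?_
    refine (flatPt_iso α).mpr ?_
    have hl : (pullback.fst g₁ (c.π.app i₁) ≫ pullback.fst g₀ (D.map φ)) ≫ g₀ =
        pullback.snd g₁ (c.π.app i₁) ≫ c.π.app i₀ := by
      rw [Category.assoc, pullback.condition, ← c.w φ, ← Category.assoc, ← Category.assoc, ← pullback.condition]
    exact flatPt_comp (t := g) (r := HG.lift _ _ hl) (HG.lift_snd _ _ _) (hflat _ _))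
  obtain ⟨Rm, _, _, _, ψ, ρ, hψ, hψi, hρ⟩ := exists_local_stage (A := A) j.left
  let tm : Spec (CommRingCat.of Rm) ⟶ D.obj i₁ := ρ ≫ D.map j.hom
  let t0 : Spec (CommRingCat.of Rm) ⟶ D.obj i₀ := tm ≫ D.map φ
  have htm : Spec.map (CommRingCat.ofHom ψ) ≫ tm = c.π.app i₁ := by
    change _ ≫ ρ ≫ D.map j.hom = _
    rw [← Category.assoc, hρ]
    exact c.w j.hom
  have ht0 : Spec.map (CommRingCat.ofHom ψ) ≫ t0 = c.π.app i₀ := by
    change _ ≫ tm ≫ D.map φ = _
    rw [← Category.assoc, htm]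
    exact c.w φ
  let gm : pullback g₀ t0 ⟶ Spec (CommRingCat.of Rm) := pullback.snd _ _
  let fm : pullback f₁ tm ⟶ Spec (CommRingCat.of Rm) := pullback.snd _ _
  have Hm : IsPullback (pullback.fst f₁ tm) fm f₁ tm := IsPullback.of_hasPullback _ _
  let v1 : pullback g₀ t0 ⟶ pullback g₀ (D.map φ) := pullback.lift (pullback.fst _ _) (gm ≫ tm) (by
    rw [Category.assoc]
    exact pullback.condition)
  let v2 : pullback g₀ t0 ⟶ pullback g₁ (D.map j.hom) := pullback.lift v1 (gm ≫ ρ) (by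
    rw [pullback.lift_snd, Category.assoc])
  have hv : v2 ≫ (pullback.fst g₁ (D.map j.hom) ≫ g₁) = gm ≫ tm := by
    rw [← Category.assoc, pullback.lift_fst, pullback.lift_snd]
  have h1 : ∀ z s, FlatPt fm ((Scheme.Modules.pullback (pullback.fst f₁ tm)).obj F₁) gm z s := fun z s =>
    AdicFamily.flatPt_of_pullback Hm gm rfl (flatPt_comp hv (hj _ _))
  have hb0 : a ≫ f₁ = (Spec.map (CommRingCat.ofHom (algebraMap A B)) ≫ Spec.map (CommRingCat.ofHom ψ)) ≫ tm := by
    rw [Category.assoc, htm]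
    exact Ha.w
  let b : Spec (CommRingCat.of B) ⟶ pullback f₁ tm :=
    pullback.lift a (Spec.map (CommRingCat.ofHom (algebraMap A B)) ≫ Spec.map (CommRingCat.ofHom ψ)) hb0
  have hb1 : b ≫ pullback.fst f₁ tm = a := pullback.lift_fst _ _ _
  have hb2 : b ≫ fm = Spec.map (CommRingCat.ofHom (algebraMap A B)) ≫ Spec.map (CommRingCat.ofHom ψ) :=
    pullback.lift_snd _ _ _
  have hbq : fm (b q) = pt (maximalIdeal Rm) := by
    rw [← Scheme.Hom.comp_apply, hb2, Scheme.Hom.comp_apply, hq, map_pt]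
    exact (pt_eq_iff _ _).mpr (((IsLocalRing.local_hom_TFAE ψ).out 0 4).mp hψ)
  have hgm : IsProper gm := MorphismProperty.of_isPullback (IsPullback.of_hasPullback g₀ t0) hg₀
  have hfm : LocallyOfFinitePresentation fm := MorphismProperty.of_isPullback Hm hf₁
  have hln : IsLocallyNoetherian (pullback f₁ tm : Scheme.{u}) := LocallyOfFiniteType.isLocallyNoetherian fm
  have hFm : Coh.IsCoh ((Scheme.Modules.pullback (pullback.fst f₁ tm)).obj F₁) :=
    (Groth.Agent.S0018.result _ _).mpr (FormalA.PullbackQC.isFP_pullback _ _ hF₁)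
  let w : Y' ⟶ pullback g₀ t0 := pullback.lift G (g ≫ Spec.map (CommRingCat.ofHom ψ)) (by
    rw [Category.assoc, ht0]
    exact HG.w)
  have hw : w ≫ gm = g ≫ Spec.map (CommRingCat.ofHom ψ) := pullback.lift_snd _ _ _
  have hinjm : Function.Injective ((Scheme.ΓSpecIso (CommRingCat.of Rm)).inv ≫ gm.appTop).hom := by
    have e1 : ((Scheme.ΓSpecIso (CommRingCat.of Rm)).inv ≫ gm.appTop) ≫ w.appTop =
        CommRingCat.ofHom ψ ≫ (Scheme.ΓSpecIso (CommRingCat.of A)).inv ≫ g.appTop := by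
      rw [Category.assoc, ← Scheme.Hom.comp_appTop, hw, Scheme.Hom.comp_appTop, ← Category.assoc,
        ← Scheme.ΓSpecIso_inv_naturality, Category.assoc]
    have e2 : Function.Injective (((Scheme.ΓSpecIso (CommRingCat.of Rm)).inv ≫ gm.appTop) ≫ w.appTop).hom := by
      rw [e1]
      exact hinj.comp hψi
    exact Function.Injective.of_comp e2
  have h2 := ProperFamily.isFlatOverAt_of_proper_noeth fm _ hFm (b q) hbq gm hinjm fun y' => h1 _ y'
  have H' : IsPullback b (Spec.map (CommRingCat.ofHom (algebraMap A B))) fm (Spec.map (CommRingCat.ofHom ψ)) := by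
    refine IsPullback.of_right (h₁₂ := pullback.fst f₁ tm) (h₂₂ := tm) (v₁₃ := f₁) ?_ hb2 Hm
    rw [hb1, htm]
    exact Ha
  exact Models2.FlatIso.isFlatOverAt_of_iso _ α q (isFlatOverAt_pullback_comp H' hb1 q h2)

/-- Descent of flatness along a proper morphism, local base. -/
theorem isFlatOverAt_local {X Y' : Scheme.{u}} (f : X ⟶ Spec (CommRingCat.of A)) [LocallyOfFinitePresentation f]
    (F : X.Modules) (hF : CohB1.IsFP F) (x : X) (hx : f x = pt (maximalIdeal A))
    (g : Y' ⟶ Spec (CommRingCat.of A)) [IsProper g] [LocallyOfFinitePresentation g]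
    (hinj : Function.Injective ((Scheme.ΓSpecIso (CommRingCat.of A)).inv ≫ g.appTop).hom)
    (hflat : ∀ y', FlatPt f F g x y') : FlatMod.IsFlatOverAt f F x := by
  have hq : Coh.IsQCoh F := PerfC.FPSections.isQCoh_of_isFP hF
  -- the flat locus of the pullback contains the inverse image of a neighbourhood of `x`
  let L : Set (pullback f g : Scheme.{u}) := {z | FlatMod.IsFlatOverAt (pullback.snd f g)
    ((Scheme.Modules.pullback (pullback.fst f g)).obj F) z}
  have hL : IsOpen L := Flat2G.FlatLocus.isOpen_flatLocus (f := pullback.snd f g)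
    (F := (Scheme.Modules.pullback (pullback.fst f g)).obj F)
    (FormalA.PullbackQC.isQCoh_pullback _ _ hq) (FormalA.PullbackQC.isFP_pullback _ _ hF)
  have hcl : IsClosed (pullback.fst f g '' Lᶜ) := (pullback.fst f g).isClosedMap _ hL.isClosed_compl
  let W : X.Opens := ⟨(pullback.fst f g '' Lᶜ)ᶜ, hcl.isOpen_compl⟩
  have hxW : x ∈ W := by
    rintro ⟨z, hz, hzx⟩
    exact hz (hflat _ z hzx rfl)
  obtain ⟨U, hU, hxU, hUW⟩ := exists_isAffineOpen_mem_and_subset (x := x) (U := W) hxW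
  let a : CommRingCat.of A ⟶ Γ(X, U) := Spec.preimage (hU.fromSpec ≫ f)
  have ha : hU.fromSpec ≫ f = Spec.map a := (Spec.map_preimage _).symm
  have haft : a.hom.FinitePresentation := by
    have h1 : LocallyOfFinitePresentation (Spec.map a) := by
      rw [← ha]
      infer_instance
    exact HasRingHomProperty.Spec_iff.mp h1
  let i1 : Algebra A Γ(X, U) := a.hom.toAlgebra
  have hfp : Algebra.FinitePresentation A Γ(X, U) := haft
  have hM : Module.FinitePresentation Γ(X, U) Γ(F, U) := Desc.FPSections.finitePresentation_sections hU hq hF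
  have w : hU.fromSpec ≫ f = Spec.map (CommRingCat.ofHom (algebraMap A Γ(X, U))) := ha
  let α : (Scheme.Modules.pullback hU.fromSpec).obj F ≅ tilde (R := CommRingCat.of Γ(X, U))
      (ModuleCat.of Γ(X, U) Γ(F, U)) :=
    ((Scheme.Modules.restrictFunctorIsoPullback hU.fromSpec).app F).symm ≪≫ Models2.FreeRes.restrictFromSpecIso F hq hU
  let q : Spec (CommRingCat.of Γ(X, U)) := hU.primeIdealOf ⟨x, hxU⟩
  have hqx : hU.fromSpec q = x := hU.fromSpec_primeIdealOf ⟨x, hxU⟩
  have h1 := isFlatOverAt_affine (A := A) (B := Γ(X, U)) (M := Γ(F, U)) q (by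
    rw [← w, Scheme.Hom.comp_apply, hqx, hx]) g hinj (fun u y' => by
      have h2 : hU.fromSpec u ∈ W := by
        have h4 : hU.fromSpec u ∈ Set.range hU.fromSpec := ⟨u, rfl⟩
        rw [hU.range_fromSpec] at h4
        exact hUW h4
      have h3 : FlatPt f F g (hU.fromSpec u) y' := fun z hz _ => by
        by_contra hz'
        exact h2 ⟨z, hz', hz⟩
      rw [flatPt_source hU.fromSpec, flatPt_iso α] at h3
      rw [← w]
      exact h3)
  rw [← w] at h1
  rw [← hqx, ← Ega3B.FlatRestrict.isFlatOverAt_restrict_iff_comp f hU.fromSpec F q]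
  exact Models2.FlatIso.isFlatOverAt_of_iso _ (Models2.FreeRes.restrictFromSpecIso F hq hU).symm q h1

end Main

end K120.ProperStage
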