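import Groth.Prelude.Def_FlatMod2
import Groth.Agent.CycB.StalkExact
import Mathlib.RingTheory.Flat.Equalizer
import Mathlib.LinearAlgebra.TensorProduct.Quotient

/-!
# Stalks of cokernels and flatness over the base

* `cokerStalkEquiv`: `(coker u)_x = G_x / u_x(F_x)`;
* `isFlatOverAt_cokernel_iff`: flatness over the base of `coker u` at `x` in terms of `G_x / u_x(F_x)`;
* `mem_of_flat_coker`: if `u : N → M` is injective with `R`-flat cokernel then `N ∩ I M = I N`.
-/

set_option autoImplicit false
universe u

open CategoryTheory CategoryTheory.Limits AlgebraicGeometry TensorProduct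

namespace K120.StalkCoker

open Groth.Agent Groth.Agent.CycB.StalkExact

theorem lTensor_quot_injective {R S M N P : Type*} [CommRing R] [CommRing S] [Algebra R S]
    [AddCommGroup M] [Module S M] [Module R M] [IsScalarTower R S M]
    [AddCommGroup P] [Module S P] [Module R P] [IsScalarTower R S P]
    [AddCommGroup N] [Module S N] [Module R N] [IsScalarTower R S N] (u : N →ₗ[S] M) (hu : Function.Injective u)
    (p : M →ₗ[S] P) (hp : Function.Surjective p) (hup : Function.Exact u p)
    [Module.Flat R P] (I : Ideal R) : Function.Injective ((u.restrictScalars R).lTensor (R ⧸ I)) :=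
  LinearMap.lTensor_injective_of_exact_of_flat (p.restrictScalars R) hp (u.restrictScalars R) hu hup (R ⧸ I)

/-- `N ∩ I M = I N` when `N → M` is injective with flat cokernel. -/
theorem mem_of_flat_coker {R S M N P : Type*} [CommRing R] [CommRing S] [Algebra R S]
    [AddCommGroup M] [Module S M] [Module R M] [IsScalarTower R S M]
    [AddCommGroup P] [Module S P] [Module R P] [IsScalarTower R S P]
    [AddCommGroup N] [Module S N] [Module R N] [IsScalarTower R S N] (u : N →ₗ[S] M) (hu : Function.Injective u)
    (p : M →ₗ[S] P) (hp : Function.Surjective p) (hup : Function.Exact u p)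
    [Module.Flat R P] (I : Ideal R) (x : N)
    (hx : u x ∈ I.map (algebraMap R S) • (⊤ : Submodule S M)) :
    x ∈ I.map (algebraMap R S) • (⊤ : Submodule S N) := by
  have h1 := lTensor_quot_injective u hu p hp hup I
  have hx' : u x ∈ I • (⊤ : Submodule R M) := by
    rwa [← Submodule.restrictScalars_mem R, Ideal.smul_restrictScalars, Submodule.restrictScalars_top] at hx
  have h2 : (1 : R ⧸ I) ⊗ₜ[R] (u x) = 0 := by
    rw [← TensorProduct.quotTensorEquivQuotSMul_symm_mk, (Submodule.Quotient.mk_eq_zero _).mpr hx', map_zero]
  have h3 : (1 : R ⧸ I) ⊗ₜ[R] x = 0 := h1 (by rw [map_zero]; exact h2)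
  have h4 : x ∈ I • (⊤ : Submodule R N) := by
    rw [← Submodule.Quotient.mk_eq_zero, ← TensorProduct.quotTensorEquivQuotSMul_mk_one_tmul, h3, map_zero]
  rwa [← Submodule.restrictScalars_mem R, Ideal.smul_restrictScalars, Submodule.restrictScalars_top]

variable {X Y : Scheme.{u}} (f : X ⟶ Y) {F G : X.Modules} (v : F ⟶ G) (x : X)

/-- The stalk of a cokernel. -/
noncomputable def cokerStalkEquiv :
    (G.presheaf.stalk x ⧸ LinearMap.range (stalkLin v x)) ≃ₗ[X.presheaf.stalk x] (cokernel v).presheaf.stalk x :=
  (Submodule.quotEquivOfEq _ _ (LinearMap.exact_iff.mp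
    (stalkLin_exact (ShortComplex.mk v (cokernel.π v) (cokernel.condition v))
    (ShortComplex.exact_cokernel v) x)).symm).trans
      ((stalkLin (cokernel.π v) x).quotKerEquivOfSurjective (stalkLin_surjective (cokernel.π v) x))

/-- the algebra `O_{Y,f x} → O_{X,x}` -/
noncomputable abbrev stalkAlg : Algebra (Y.presheaf.stalk (f x)) (X.presheaf.stalk x) := (f.stalkMap x).hom.toAlgebra

theorem isScalarTower (M : X.Modules) :
    letI := stalkAlg f x
    letI := FlatMod.moduleStalkOver f M x
    IsScalarTower (Y.presheaf.stalk (f x)) (X.presheaf.stalk x) (M.presheaf.stalk x) := by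
  let _ := stalkAlg f x
  let _ := FlatMod.moduleStalkOver f M x
  exact ⟨fun a b m => by rw [Algebra.smul_def, mul_smul]; rfl⟩

theorem isFlatOverAt_cokernel_iff :
    letI := stalkAlg f x
    letI := FlatMod.moduleStalkOver f G x
    haveI := isScalarTower f x G
    FlatMod.IsFlatOverAt f (cokernel v) x ↔
      Module.Flat (Y.presheaf.stalk (f x)) (G.presheaf.stalk x ⧸ LinearMap.range (stalkLin v x)) := by
  let _ := stalkAlg f x
  let _ := FlatMod.moduleStalkOver f G x
  have := isScalarTower f x G
  let _ := FlatMod.moduleStalkOver f (cokernel v) x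
  have := isScalarTower f x (cokernel v)
  have e := (cokerStalkEquiv v x).restrictScalars (Y.presheaf.stalk (f x))
  constructor
  · intro h
    have h' : Module.Flat (Y.presheaf.stalk (f x)) ((cokernel v).presheaf.stalk x) := h
    exact Module.Flat.of_linearEquiv e
  · intro h
    have h' : Module.Flat (Y.presheaf.stalk (f x)) ((cokernel v).presheaf.stalk x) :=
      Module.Flat.of_linearEquiv e.symm
    exact h'

end K120.StalkCoker
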